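import Cfsg.Prelude.Def_DegreeGraph
import Mathlib.GroupTheory.Sylow
import Mathlib.GroupTheory.Solvable

/-!
# Pálfy's three primes theorem: interface of the linear group half

`KP` : a finite solvable group `H` acts irreducibly on an elementary abelian `ℓ`-group `V`, every
non-trivial element of `V` is fixed by exactly one Sylow `a`-subgroup and exactly one Sylow
`b`-subgroup of `H`, these are abelian and act non-trivially on `V`; then `a * b` divides the degree
of some irreducible character of `H`.  It is proved in `Cfsg.Agent.H273.PalfyKP`.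
-/

set_option autoImplicit false

namespace Cfsg.Agent.H273.Palfy

universe u v

/-- Every non-trivial element of `V` is fixed by exactly one Sylow `p`-subgroup of `H`, and this one is
abelian. -/
def UniqueSylow (p : ℕ) (H : Type u) (V : Type v) [Group H] [CommGroup V] [MulDistribMulAction H V] : Prop :=
  ∀ v : V, v ≠ 1 → ∃ A : Sylow p H, IsMulCommutative ↥(A : Subgroup H) ∧ (∀ h ∈ (A : Subgroup H), h • v = v) ∧
    ∀ B : Sylow p H, (∀ h ∈ (B : Subgroup H), h • v = v) → B = A

/-- The linear group half of Pálfy's theorem. -/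
def KP : Prop :=
  ∀ (H : Type u) [Group H] [Finite H] (V : Type v) [CommGroup V] [Finite V] [Nontrivial V]
    [MulDistribMulAction H V] (a b ℓ : ℕ) [Fact a.Prime] [Fact b.Prime] [Fact ℓ.Prime],
    Group.IsSolvable H → a ≠ b → (∀ v : V, v ^ ℓ = 1) →
    (∀ W : Subgroup V, (∀ h : H, ∀ w ∈ W, h • w ∈ W) → W = ⊥ ∨ W = ⊤) →
    UniqueSylow a H V → UniqueSylow b H V →
    (∃ A : Sylow a H, ∃ h ∈ (A : Subgroup H), ∃ v : V, h • v ≠ v) →
    (∃ B : Sylow b H, ∃ h ∈ (B : Subgroup H), ∃ v : V, h • v ≠ v) →
    ∃ χ : Cfsg.IrrCharacter H, a * b ∣ Cfsg.charDegree (χ : H → ℂ)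

end Cfsg.Agent.H273.Palfy
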