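import Mathlib
import Cfsg.Agent.H847.LemmaY

/-!
# Elements of prime order larger than the dimension

`ρ : G → GL(W)` faithful, `W` of dimension `n` over an algebraically closed field `K`, `x ∈ G` of prime order `r > n`
normalising `P ≤ G`, `|P|` invertible in `K`.

* `centralises_abelian` : if `P` is abelian then `x` centralises `P`;
* `pgroup_case` : if `P` is an `s`-group, `s ≠ r`, not centralised by `x`, then `s = 2`, `r = n + 1` and `n` is a
  power of two.
-/

set_option autoImplicit false
set_option linter.unusedSectionVars false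

namespace Cfsg.Agent.H273.PalfyRep

open Polynomial

section Pairing

variable {K : Type*} [Field K]

/-- the number of homomorphisms into `Kˣ` with kernel above `N` is at most the index of `N` -/
theorem card_hom_le {Q : Type*} [Group Q] [Finite Q] (N : Subgroup Q) [N.Normal] (ι : Type*) (f : ι → (Q →* Kˣ))
    (hf : Function.Injective f) (hN : ∀ i, ∀ g ∈ N, f i g = 1) : Nat.card ι ≤ N.index := by
  classical
  have h1 : Function.Injective (fun i : ι => ((Units.coeHom K).comp (QuotientGroup.lift N (f i) (hN i)) : (Q ⧸ N) →* K)) := by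
    intro i j h
    apply hf
    ext g
    exact DFunLike.congr_fun h (g : Q ⧸ N)
  have h2 : LinearIndependent K (fun f : (Q ⧸ N) →* K => (f : (Q ⧸ N) → K)) := linearIndependent_monoidHom _ _
  have h3 := h2.comp _ h1
  have : Fintype (Q ⧸ N) := Fintype.ofFinite _
  have h4 : Finite ι := by
    have : Module.Finite K ((Q ⧸ N) → K) := inferInstance
    exact h3.finite
  have : Fintype ι := Fintype.ofFinite _
  have h5 := h3.fintype_card_le_finrank
  rw [Module.finrank_pi, ← Nat.card_eq_fintype_card, ← Nat.card_eq_fintype_card] at h5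
  exact h5

/-- A maximal isotropic subgroup of an alternating pairing. -/
theorem exists_isotropic {P : Type*} [Group P] [Finite P] (B : P →* (P →* Kˣ)) (hB : ∀ g, B g g = 1) :
    ∃ M : Subgroup P, M.Normal ∧ B.ker ≤ M ∧ (∀ m ∈ M, ∀ m' ∈ M, B m m' = 1) ∧
      (∀ g, (∀ m ∈ M, B g m = 1) → g ∈ M) ∧ B.ker.index = M.index ^ 2 := by
  classical
  have hanti : ∀ g h, B g h = 1 → B h g = 1 := by
    intro g h hgh
    have h1 := hB (g * h)
    rw [map_mul B, MonoidHom.mul_apply, map_mul, map_mul, hB, hB, hgh] at h1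
    simpa using h1
  -- a maximal isotropic subgroup above the radical
  obtain ⟨M, hM⟩ : ∃ M : Subgroup P, Maximal (fun M : Subgroup P => B.ker ≤ M ∧ ∀ m ∈ M, ∀ m' ∈ M, B m m' = 1) M := by
    have hfin : Finite (Subgroup P) := inferInstance
    obtain ⟨M, hM⟩ := Set.Finite.exists_maximal (s := {M : Subgroup P | B.ker ≤ M ∧ ∀ m ∈ M, ∀ m' ∈ M, B m m' = 1})
      (Set.toFinite _) ⟨B.ker, le_rfl, fun m hm m' _ => by rw [MonoidHom.mem_ker.1 hm]; rfl⟩
    exact ⟨M, hM⟩
  obtain ⟨⟨hZM, hiso⟩, hmax⟩ := hM
  have hperp : ∀ g, (∀ m ∈ M, B g m = 1) → g ∈ M := by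
    intro g hg
    have h1 : ∀ u ∈ Subgroup.closure (insert g (M : Set P)), ∀ v ∈ Subgroup.closure (insert g (M : Set P)), B u v = 1 := by
      intro u hu
      have h2 : ∀ v ∈ insert g (M : Set P), B u v = 1 := by
        induction hu using Subgroup.closure_induction with
        | mem u hu =>
          intro v hv
          rcases hu with rfl | hu
          · rcases hv with rfl | hv
            · exact hB _
            · exact hg v hv
          · rcases hv with rfl | hv
            · exact hanti _ _ (hg u hu)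
            · exact hiso u hu v hv
        | one => intro v _; rw [map_one]; rfl
        | mul a b _ _ ha hb => intro v hv; rw [map_mul, MonoidHom.mul_apply, ha v hv, hb v hv, mul_one]
        | inv a _ ha => intro v hv; rw [map_inv, MonoidHom.inv_apply, ha v hv, inv_one]
      intro v hv
      induction hv using Subgroup.closure_induction with
      | mem v hv => exact h2 v hv
      | one => exact map_one _
      | mul a b _ _ ha hb => rw [map_mul, ha, hb, mul_one]
      | inv a _ ha => rw [map_inv, ha, inv_one]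
    have h3 : M ≤ Subgroup.closure (insert g (M : Set P)) := fun m hm => Subgroup.subset_closure (Or.inr hm)
    have h4 := hmax ⟨hZM.trans h3, h1⟩ h3
    exact h4 (Subgroup.subset_closure (Or.inl rfl))
  have hnorm : M.Normal := by
    constructor
    intro m hm g
    apply hperp
    intro m' hm'
    rw [map_mul, map_mul, map_inv, MonoidHom.mul_apply, MonoidHom.mul_apply, MonoidHom.inv_apply, hiso m hm m' hm']
    simp
  refine ⟨M, hnorm, hZM, hiso, hperp, ?_⟩
  have hidx : B.ker.relIndex M * M.index = B.ker.index := Subgroup.relIndex_mul_index hZM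
  have hZn : (B.ker.subgroupOf M).Normal := inferInstance
  -- first inequality
  have hle1 : M.index ≤ B.ker.relIndex M := by
    have h1 : Nat.card (P ⧸ M) ≤ (B.ker.subgroupOf M).index := by
      refine card_hom_le (K := K) (B.ker.subgroupOf M) (P ⧸ M)
        (fun y => (B y.out).comp M.subtype) ?_ ?_
      · intro y y' h
        have h2 : y.out⁻¹ * y'.out ∈ M := by
          apply hperp
          intro m hm
          have h3 := DFunLike.congr_fun h (⟨m, hm⟩ : M)
          simp only [MonoidHom.comp_apply, Subgroup.subtype_apply] at h3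
          rw [map_mul, map_inv, MonoidHom.mul_apply, MonoidHom.inv_apply, h3, inv_mul_cancel]
        rw [← QuotientGroup.eq, QuotientGroup.out_eq', QuotientGroup.out_eq'] at h2
        exact h2
      · intro y g hg
        rw [Subgroup.mem_subgroupOf, MonoidHom.mem_ker] at hg
        simp only [MonoidHom.comp_apply, Subgroup.subtype_apply]
        apply hanti
        rw [hg]; rfl
    exact h1
  have hle2 : B.ker.relIndex M ≤ M.index := by
    have h1 : Nat.card (M ⧸ B.ker.subgroupOf M) ≤ M.index := by
      refine card_hom_le (K := K) M (M ⧸ B.ker.subgroupOf M) (fun y => B (y.out : M)) ?_ ?_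
      · intro y y' h
        have h2 : y.out⁻¹ * y'.out ∈ B.ker.subgroupOf M := by
          rw [Subgroup.mem_subgroupOf, MonoidHom.mem_ker, Subgroup.coe_mul, Subgroup.coe_inv, map_mul, map_inv]
          simp only at h
          rw [h, inv_mul_cancel]
        rw [← QuotientGroup.eq, QuotientGroup.out_eq', QuotientGroup.out_eq'] at h2
        exact h2
      · intro y g hg
        exact hiso _ y.out.2 g hg
    exact h1
  rw [← hidx, le_antisymm hle2 hle1, sq]

end Pairing

section Weights

variable {K : Type*} [Field K] [IsAlgClosed K] {W : Type*} [AddCommGroup W] [Module K W] [FiniteDimensional K W]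

/-- weight vectors with distinct weights are linearly independent -/
theorem card_le_finrank {ι G : Type*} [Finite ι] (φ : G → (W →ₗ[K] W)) (v : ι → W) (χ : ι → G → K)
    (S : Set G) (hv : ∀ i, ∀ h ∈ S, φ h (v i) = χ i h • v i) (hv0 : ∀ i, v i ≠ 0)
    (hsep : ∀ i j, i ≠ j → ∃ h ∈ S, χ i h ≠ χ j h) : Nat.card ι ≤ Module.finrank K W := by
  classical
  have : Fintype ι := Fintype.ofFinite _
  have h1 : LinearIndependent K v := by
    rw [Fintype.linearIndependent_iff]
    intro a h0 i
    obtain ⟨Φ, c, h1, h2, h3⟩ := Cfsg.Agent.H847.LemmaY.exists_sep φ v χ S hv i (Finset.univ.erase i) (by simp)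
      (fun j hj => hsep i j (Finset.ne_of_mem_erase hj).symm)
    have h4 := congrArg Φ h0
    rw [map_sum, map_zero, Finset.sum_eq_single i] at h4
    · rw [map_smul, h1, smul_smul] at h4
      rcases smul_eq_zero.1 h4 with h5 | h5
      · rcases mul_eq_zero.1 h5 with h6 | h6
        · exact h6
        · exact absurd h6 h3
      · exact absurd h5 (hv0 i)
    · intro j _ hji
      rw [map_smul, h1, h2 j (Finset.mem_erase.2 ⟨hji, Finset.mem_univ j⟩), zero_smul, smul_zero]
    · intro h
      exact absurd (Finset.mem_univ i) h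
  have h5 := h1.fintype_card_le_finrank
  rwa [← Nat.card_eq_fintype_card] at h5

/-- a weight vector for a finite abelian subgroup, non-trivial on a given element -/
theorem exists_weight {G : Type*} [Group G] (ρ : G →* (W →ₗ[K] W)) (hρ : Function.Injective ρ) (Z : Subgroup G) [Finite Z]
    (hZ : ∀ a ∈ Z, ∀ b ∈ Z, a * b = b * a) (hK : (Nat.card Z : K) ≠ 0) (c : G) (hc : c ∈ Z) (hc1 : c ≠ 1) :
    ∃ (χ : G → K) (e : W), e ≠ 0 ∧ (∀ z ∈ Z, ρ z e = χ z • e) ∧ χ c ≠ 1 := by
  classical
  set U : Submodule K W := LinearMap.range (ρ c - 1) with hU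
  have hU0 : U ≠ ⊥ := by
    intro h
    rw [hU, LinearMap.range_eq_bot, sub_eq_zero] at h
    exact hc1 (hρ (by rw [h, map_one]))
  have hcomm : ∀ a ∈ Z, ∀ b ∈ Z, ∀ w, ρ a (ρ b w) = ρ b (ρ a w) := by
    intro a ha b hb w
    rw [← Module.End.mul_apply, ← Module.End.mul_apply, ← map_mul, ← map_mul, hZ a ha b hb]
  obtain ⟨v, hv, hv0, hv1⟩ := Cfsg.Agent.H847.LemmaY.exists_common (K := K) (fun z : Z => ρ (z : G))
    (fun a b w => hcomm a a.2 b b.2 w) _ U rfl hU0 (by
    rintro z _ ⟨a, rfl⟩
    refine ⟨ρ (z : G) a, ?_⟩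
    simp only [LinearMap.sub_apply, Module.End.one_apply, map_sub]
    rw [hcomm c hc z z.2])
  have hv2 : ∀ z : G, ∃ k : K, z ∈ Z → ρ z v = k • v := by
    intro z
    by_cases hz : z ∈ Z
    · obtain ⟨k, hk⟩ := hv1 ⟨z, hz⟩
      exact ⟨k, fun _ => hk⟩
    · exact ⟨0, fun h => absurd h hz⟩
  choose χ hχ using hv2
  refine ⟨χ, v, hv0, hχ, ?_⟩
  intro h1
  obtain ⟨a, ha⟩ := hv
  have h2 : ρ c v = v := by rw [hχ c hc, h1, one_smul]
  set m := orderOf c with hm
  have h3 : ∀ i : ℕ, (ρ c ^ i) v = v := by
    intro i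
    induction i with
    | zero => simp
    | succ i ih => rw [pow_succ, Module.End.mul_apply, h2, ih]
  have h4 : (∑ i ∈ Finset.range m, ρ c ^ i) v = (m : K) • v := by
    rw [LinearMap.sum_apply, Finset.sum_congr rfl fun i _ => h3 i, Finset.sum_const, Finset.card_range,
      Nat.cast_smul_eq_nsmul]
  have h5 : (∑ i ∈ Finset.range m, ρ c ^ i) v = 0 := by
    rw [← ha, ← Module.End.mul_apply, geom_sum_mul, ← map_pow, hm, pow_orderOf_eq_one, map_one, sub_self]
    rfl
  rw [h5] at h4
  rcases smul_eq_zero.1 h4.symm with h6 | h6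
  · apply hK
    have h7 : m ∣ Nat.card Z := by
      have := orderOf_dvd_natCard (⟨c, hc⟩ : Z)
      rwa [Subgroup.orderOf_mk] at this
    obtain ⟨k, hk⟩ := h7
    rw [hk, Nat.cast_mul, h6, zero_mul]
  · exact hv0 h6

theorem weight_mul {G : Type*} [Group G] (ρ : G →* (W →ₗ[K] W)) (Z : Subgroup G) {χ : G → K} {e : W} (he : e ≠ 0)
    (hz : ∀ z ∈ Z, ρ z e = χ z • e) {a b : G} (ha : a ∈ Z) (hb : b ∈ Z) : χ (a * b) = χ a * χ b := by
  have h1 := hz (a * b) (Z.mul_mem ha hb)
  rw [map_mul, Module.End.mul_apply, hz b hb, map_smul, hz a ha, smul_smul] at h1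
  have h2 : (χ b * χ a - χ (a * b)) • e = 0 := by rw [sub_smul, h1, sub_self]
  rcases smul_eq_zero.1 h2 with h3 | h3
  · rw [← sub_eq_zero.1 h3, mul_comm]
  · exact absurd h3 he

theorem weight_ne_zero {G : Type*} [Group G] (ρ : G →* (W →ₗ[K] W)) (Z : Subgroup G) {χ : G → K} {e : W} (he : e ≠ 0)
    (hz : ∀ z ∈ Z, ρ z e = χ z • e) {a : G} (ha : a ∈ Z) : χ a ≠ 0 := by
  intro h0
  have h1 := hz a ha
  rw [h0, zero_smul] at h1
  have h2 : ρ a⁻¹ (ρ a e) = e := by
    rw [← Module.End.mul_apply, ← map_mul, inv_mul_cancel, map_one]; rfl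
  rw [h1, map_zero] at h2
  exact he h2.symm

theorem weight_one {G : Type*} [Group G] (ρ : G →* (W →ₗ[K] W)) (Z : Subgroup G) {χ : G → K} {e : W} (he : e ≠ 0)
    (hz : ∀ z ∈ Z, ρ z e = χ z • e) : χ 1 = 1 := by
  have h1 := weight_mul ρ Z he hz Z.one_mem Z.one_mem
  rw [mul_one] at h1
  exact (mul_eq_left₀ (weight_ne_zero ρ Z he hz Z.one_mem)).1 h1.symm

/-- **An element of prime order larger than the dimension centralises the abelian groups it normalises.** -/
theorem centralises_abelian {G : Type*} [Group G] (ρ : G →* (W →ₗ[K] W)) (hρ : Function.Injective ρ)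
    (x : G) {r : ℕ} (hr : r.Prime) (hx : x ^ r = 1) (hn : Module.finrank K W < r)
    (P : Subgroup G) [Finite P] (hab : ∀ a ∈ P, ∀ b ∈ P, a * b = b * a) (hK : (Nat.card P : K) ≠ 0)
    (hxP : ∀ g ∈ P, x * g * x⁻¹ ∈ P) : ∀ g ∈ P, x * g * x⁻¹ = g := by
  by_contra hcon
  push Not at hcon
  obtain ⟨g0, hg0, hne⟩ := hcon
  have hwP : x * g0 * x⁻¹ * g0⁻¹ ∈ P := P.mul_mem (hxP g0 hg0) (P.inv_mem hg0)
  have hw1 : x * g0 * x⁻¹ * g0⁻¹ ≠ 1 := fun h => hne (mul_inv_eq_one.1 h)
  obtain ⟨χ, e, he, hz, hχ⟩ := exists_weight ρ hρ P hab hK _ hwP hw1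
  have hTinj : Function.Injective (ρ x) := by
    intro a b h
    have := congrArg (ρ x⁻¹) h
    simpa [← Module.End.mul_apply, ← map_mul] using this
  have hfree := Cfsg.Agent.H847.LemmaY.orbit_free (K := K) (W := W) x hr hx (ρ x) hTinj (fun h => ρ h) P hxP ?_ e he χ
    (fun h hh => hz h hh) ⟨g0, hg0, ?_⟩ (LinearMap.charpoly (ρ x)) (LinearMap.charpoly_monic _).ne_zero
    (by rw [LinearMap.charpoly_natDegree]; exact hn)
  · apply hfree
    rw [LinearMap.aeval_self_charpoly]; rfl
  · intro h _ w
    rw [← Module.End.mul_apply, ← Module.End.mul_apply, ← map_mul, ← map_mul]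
    congr 2
    group
  · intro h
    apply hχ
    have h1 : χ (x * g0 * x⁻¹ * g0⁻¹ * g0) = χ (x * g0 * x⁻¹ * g0⁻¹) * χ g0 := weight_mul ρ P he hz hwP hg0
    rw [inv_mul_cancel_right, h] at h1
    exact (mul_eq_right₀ (weight_ne_zero ρ P he hz hg0)).1 h1.symm

theorem minimal_case {P : Type*} [Group P] [Finite P] (ρ : P →* (W →ₗ[K] W)) (hρ : Function.Injective ρ)
    (hK : (Nat.card P : K) ≠ 0) {r : ℕ} (hr : r.Prime) (σ : MulAut P) (hσr : σ ^ r = 1)
    (hgen : Subgroup.closure (Set.range fun g => σ g * g⁻¹) = ⊤) (hnab : ∃ a b : P, a * b ≠ b * a)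
    (hmin : ∀ N : Subgroup P, N.Normal → (∀ g ∈ N, σ g ∈ N) → N ≠ ⊤ → N ≤ Subgroup.center P ∧ ∀ g ∈ N, σ g = g)
    (hcomm : commutator P ≠ ⊤) :
    ∃ d : ℕ, (Subgroup.center P).index = d ^ 2 ∧ d ≤ Module.finrank K W ∧ d ^ 2 ≡ 1 [MOD r] := by
  classical
  have hr' : Fact r.Prime := ⟨hr⟩
  obtain ⟨a0, b0, hab⟩ := hnab
  have hZne : Subgroup.center P ≠ ⊤ := by
    intro h
    apply hab
    have : a0 ∈ Subgroup.center P := by rw [h]; trivial
    exact (Subgroup.mem_center_iff.1 this b0).symm
  have hDZ : commutator P ≤ Subgroup.center P := by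
    refine (hmin _ inferInstance ?_ hcomm).1
    intro g hg
    have h1 : (commutator P).map σ.toMonoidHom ≤ commutator P := by
      rw [commutator_def, Subgroup.map_commutator]
      exact Subgroup.commutator_mono le_top le_top
    exact h1 ⟨g, hg, rfl⟩
  have hcm : ∀ g h : P, g * h * g⁻¹ * h⁻¹ ∈ Subgroup.center P := fun g h =>
    hDZ (Subgroup.commutator_mem_commutator (Subgroup.mem_top g) (Subgroup.mem_top h))
  have hcen : ∀ z ∈ Subgroup.center P, ∀ g : P, g * z = z * g := fun z hz g => Subgroup.mem_center_iff.1 hz g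
  have hZσ' : ∀ g ∈ Subgroup.center P, σ g ∈ Subgroup.center P := by
    intro g hg
    rw [Subgroup.mem_center_iff] at hg ⊢
    intro h
    have := congrArg σ (hg (σ.symm h))
    simpa using this
  have hZσ : ∀ g ∈ Subgroup.center P, σ g = g := (hmin _ inferInstance hZσ' hZne).2
  have hc0 : a0 * b0 * a0⁻¹ * b0⁻¹ ≠ 1 := by
    intro h
    apply hab
    have := congrArg (fun t => t * (b0 * a0)) h
    simpa [mul_assoc] using this
  have hZK : (Nat.card (Subgroup.center P) : K) ≠ 0 := by
    intro h
    obtain ⟨k, hk⟩ := Subgroup.card_subgroup_dvd_card (Subgroup.center P)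
    apply hK
    rw [hk, Nat.cast_mul, h, zero_mul]
  obtain ⟨χ, e, he, hz, hχ⟩ := exists_weight ρ hρ (Subgroup.center P) (fun a ha b hb => (hcen b hb a)) hZK _ (hcm a0 b0) hc0
  have hmul : ∀ a ∈ Subgroup.center P, ∀ b ∈ Subgroup.center P, χ (a * b) = χ a * χ b :=
    fun a ha b hb => weight_mul ρ _ he hz ha hb
  have hnz : ∀ a ∈ Subgroup.center P, χ a ≠ 0 := fun a ha => weight_ne_zero ρ _ he hz ha
  have hone : χ 1 = 1 := weight_one ρ _ he hz
  -- the pairing
  have hright : ∀ g h h' : P, g * (h * h') * g⁻¹ * (h * h')⁻¹ = (g * h * g⁻¹ * h⁻¹) * (g * h' * g⁻¹ * h'⁻¹) := by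
    intro g h h'
    have h1 := hcen _ (hcm g h') h
    calc g * (h * h') * g⁻¹ * (h * h')⁻¹ = g * h * g⁻¹ * (g * h' * g⁻¹ * h'⁻¹) * h⁻¹ := by group
      _ = g * h * g⁻¹ * h⁻¹ * (h * (g * h' * g⁻¹ * h'⁻¹)) * h⁻¹ := by group
      _ = g * h * g⁻¹ * h⁻¹ * ((g * h' * g⁻¹ * h'⁻¹) * h) * h⁻¹ := by rw [h1]
      _ = _ := by group
  have hleft : ∀ g g' h : P, (g * g') * h * (g * g')⁻¹ * h⁻¹ = (g * h * g⁻¹ * h⁻¹) * (g' * h * g'⁻¹ * h⁻¹) := by
    intro g g' h
    have h1 := hcen _ (hcm g' h) g
    calc (g * g') * h * (g * g')⁻¹ * h⁻¹ = (g * (g' * h * g'⁻¹ * h⁻¹)) * (h * g⁻¹ * h⁻¹) := by group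
      _ = ((g' * h * g'⁻¹ * h⁻¹) * g) * (h * g⁻¹ * h⁻¹) := by rw [h1]
      _ = (g' * h * g'⁻¹ * h⁻¹) * (g * h * g⁻¹ * h⁻¹) := by group
      _ = _ := (hcen _ (hcm g' h) _).symm
  let B : P →* (P →* Kˣ) :=
    { toFun := fun g =>
        { toFun := fun h => Units.mk0 (χ (g * h * g⁻¹ * h⁻¹)) (hnz _ (hcm g h))
          map_one' := by ext; simp [hone]
          map_mul' := by
            intro h h'
            ext
            simp only [Units.val_mk0, Units.val_mul]
            rw [hright, hmul _ (hcm g h) _ (hcm g h')] }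
      map_one' := by ext; simp [hone]
      map_mul' := by
        intro g g'
        ext h
        simp only [MonoidHom.coe_mk, OneHom.coe_mk, Units.val_mk0, MonoidHom.mul_apply, Units.val_mul]
        rw [hleft, hmul _ (hcm g h) _ (hcm g' h)] }
  have hBv : ∀ g h, ((B g h : Kˣ) : K) = χ (g * h * g⁻¹ * h⁻¹) := fun g h => rfl
  have hBalt : ∀ g, B g g = 1 := by
    intro g
    ext
    rw [hBv]
    simp [hone]
  have hBii : ∀ g h, B g⁻¹ h⁻¹ = B g h := by
    intro g h
    rw [map_inv B, MonoidHom.inv_apply, map_inv (B g), inv_inv]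
  have hker : B.ker = Subgroup.center P := by
    apply le_antisymm
    · refine (hmin B.ker inferInstance ?_ ?_).1
      · intro g hg
        rw [MonoidHom.mem_ker] at hg ⊢
        ext h
        have h1 := congrArg (fun u => (((u (σ.symm h)) : Kˣ) : K)) hg
        simp only [MonoidHom.one_apply, Units.val_one] at h1 ⊢
        rw [hBv] at h1 ⊢
        rw [← h1]
        have h2 := hZσ _ (hcm g (σ.symm h))
        rw [← h2]
        simp
      · intro h
        have h1 : a0 ∈ B.ker := by rw [h]; trivial
        rw [MonoidHom.mem_ker] at h1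
        have h2 := congrArg (fun u => (((u b0) : Kˣ) : K)) h1
        simp only [MonoidHom.one_apply, Units.val_one] at h2
        rw [hBv] at h2
        exact hχ h2
    · intro z hz
      rw [MonoidHom.mem_ker]
      ext h
      rw [hBv, MonoidHom.one_apply, Units.val_one]
      have : z * h * z⁻¹ * h⁻¹ = 1 := by
        rw [← hcen z hz h]; group
      rw [this, hone]
  obtain ⟨M, hMn, hZM, hiso, hperp, hidx⟩ := exists_isotropic B hBalt
  rw [hker] at hidx hZM
  refine ⟨M.index, hidx, ?_, ?_⟩
  · -- the weight space of `χ`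
    let U : Submodule K W :=
      { carrier := {w | ∀ z ∈ Subgroup.center P, ρ z w = χ z • w}
        add_mem' := by
          intro a b ha hb z hz
          rw [map_add, ha z hz, hb z hz, smul_add]
        zero_mem' := by
          intro z _
          rw [map_zero, smul_zero]
        smul_mem' := by
          intro c w hw z hz
          rw [map_smul, hw z hz, smul_comm] }
    have hUP : ∀ g : P, ∀ w ∈ U, ρ g w ∈ U := by
      intro g w hw z hz
      rw [← Module.End.mul_apply, ← map_mul, ← hcen z hz g, map_mul, Module.End.mul_apply, hw z hz, map_smul]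
    have hUnt : Nontrivial U := ⟨⟨⟨e, hz⟩, 0, fun h => he (congrArg Subtype.val h)⟩⟩
    obtain ⟨v, -, hv0, hv1⟩ := Cfsg.Agent.H847.LemmaY.exists_common (K := K) (V := U)
      (fun m : M => (ρ (m : P)).restrict (hUP m)) (by
        intro m m' w
        apply Subtype.ext
        simp only [LinearMap.coe_restrict_apply]
        have h1 : ((m : P) * m' * (m : P)⁻¹ * (m' : P)⁻¹) ∈ Subgroup.center P := hcm _ _
        have h2 : ((m : P) * m') = ((m' : P) * m) * ((m : P) * m' * (m : P)⁻¹ * (m' : P)⁻¹) := by
          rw [hcen _ h1]; group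
        have h3 := hiso m m.2 m' m'.2
        have h4 : χ ((m : P) * m' * (m : P)⁻¹ * (m' : P)⁻¹) = 1 := by
          exact (hBv m m').symm.trans (by rw [h3]; rfl)
        rw [← Module.End.mul_apply, ← Module.End.mul_apply, ← map_mul, ← map_mul, h2, map_mul, Module.End.mul_apply,
          w.2 _ h1, h4, one_smul]) _ ⊤ rfl top_ne_bot (fun _ _ _ => trivial)
    have hv2 : ∀ m : M, ∃ c : K, ρ (m : P) (v : W) = c • (v : W) := by
      intro m
      obtain ⟨c, hc⟩ := hv1 m
      exact ⟨c, congrArg Subtype.val hc⟩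
    choose μ hμ using hv2
    have hv0' : (v : W) ≠ 0 := fun h => hv0 (Subtype.ext h)
    have hμ0 : ∀ m : M, μ m ≠ 0 := by
      intro m h0
      have h1 := hμ m
      rw [h0, zero_smul] at h1
      have h2 : ρ (m : P)⁻¹ (ρ (m : P) (v : W)) = v := by
        rw [← Module.End.mul_apply, ← map_mul, inv_mul_cancel, map_one]; rfl
      rw [h1, map_zero] at h2
      exact hv0' h2.symm
    refine card_le_finrank (ι := P ⧸ M) (fun m : M => ρ (m : P)) (fun y => ρ y.out (v : W))
      (fun y m => χ ((m : P)⁻¹ * y.out⁻¹ * (m : P) * y.out) * μ m) Set.univ ?_ ?_ ?_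
    · intro y m _
      have h1 : (m : P)⁻¹ * y.out⁻¹ * (m : P) * y.out ∈ Subgroup.center P := by
        have := hcm (m : P)⁻¹ y.out⁻¹
        simpa using this
      have h2 : (m : P) * y.out = y.out * (m : P) * ((m : P)⁻¹ * y.out⁻¹ * (m : P) * y.out) := by group
      rw [← Module.End.mul_apply, ← map_mul, h2, map_mul, Module.End.mul_apply, v.2 _ h1, map_smul, map_mul,
        Module.End.mul_apply, hμ, map_smul, smul_smul]
    · intro y h0
      have h2 : ρ (y.out)⁻¹ (ρ y.out (v : W)) = v := by
        rw [← Module.End.mul_apply, ← map_mul, inv_mul_cancel, map_one]; rfl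
      rw [h0, map_zero] at h2
      exact hv0' h2.symm
    · intro y y' hne
      by_contra hcon
      push Not at hcon
      apply hne
      have h2 : y.out⁻¹ * y'.out ∈ M := by
        apply hperp
        intro m hm
        have h3 := hcon ⟨m, hm⟩ (Set.mem_univ _)
        have h4 := mul_right_cancel₀ (hμ0 ⟨m, hm⟩) h3
        simp only at h4
        have h5 : B m⁻¹ y.out⁻¹ = B m⁻¹ y'.out⁻¹ := by
          ext
          rw [hBv, hBv, inv_inv, inv_inv, inv_inv]
          exact h4
        have h6 : B m (y.out⁻¹ * y'.out) = 1 := by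
          rw [hBii, hBii] at h5 
          rw [map_mul, map_inv, h5, inv_mul_cancel]
        generalize y.out⁻¹ * y'.out = u at h6 ⊢
        have h7 := hBalt (m * u)
        rw [map_mul B, MonoidHom.mul_apply, map_mul (B m), map_mul (B u), hBalt m, hBalt u, h6] at h7
        simpa using h7
      rw [← QuotientGroup.eq, QuotientGroup.out_eq', QuotientGroup.out_eq'] at h2
      exact h2
  · -- fixed points on `P / Z`
    rw [← hidx]
    have : Fintype (P ⧸ Subgroup.center P) := Fintype.ofFinite _
    let f : Function.End (P ⧸ Subgroup.center P) := fun y =>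
      QuotientGroup.map (Subgroup.center P) (Subgroup.center P) σ.toMonoidHom (fun g hg => hZσ' g hg) y
    have hfk : ∀ (k : ℕ) (g : P), (f ^ k) (g : P ⧸ Subgroup.center P) = (((σ ^ k) g : P) : P ⧸ Subgroup.center P) := by
      intro k
      induction k with
      | zero => intro g; rfl
      | succ k ih =>
        intro g
        rw [pow_succ]
        show (f ^ k) (f (g : P ⧸ Subgroup.center P)) = _
        have h1 : f (g : P ⧸ Subgroup.center P) = ((σ g : P) : P ⧸ Subgroup.center P) := rfl
        rw [h1, ih, pow_succ, MulAut.mul_apply]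
    have hf1 : f ^ r ^ 1 = 1 := by
      funext y
      induction y using QuotientGroup.induction_on with
      | H g => rw [pow_one, hfk, hσr]; rfl
    have h1 := Equiv.Perm.card_fixedPoints_modEq (p := r) hf1
    have h2 : ∀ (inst : Fintype f.fixedPoints), @Fintype.card _ inst = 1 := by
      intro inst
      rw [Fintype.card_eq_one_iff]
      refine ⟨⟨1, ?_⟩, ?_⟩
      · have := hfk 1 1
        rw [pow_one] at this
        show f 1 = 1
        rw [← QuotientGroup.mk_one, this]; simp
      · rintro ⟨y, hy⟩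
        apply Subtype.ext
        show y = 1
        induction y using QuotientGroup.induction_on with
        | H g =>
          have hD : g ∈ Subgroup.center P := by
            let D : Subgroup P := ((QuotientGroup.mk' (Subgroup.center P)).comp σ.toMonoidHom).eqLocus
              (QuotientGroup.mk' (Subgroup.center P))
            have hDm : ∀ g, g ∈ D ↔ ((σ g : P) : P ⧸ Subgroup.center P) = (g : P ⧸ Subgroup.center P) := fun g => Iff.rfl
            have hZD : Subgroup.center P ≤ D := by
              intro z hz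
              rw [hDm, hZσ z hz]
            have hDn : D.Normal := Subgroup.Normal.of_commutator_le _ (hDZ.trans hZD)
            have hDσ : ∀ g ∈ D, σ g ∈ D := by
              intro g hg
              rw [hDm] at hg ⊢
              rw [QuotientGroup.eq] at hg ⊢
              have := hZσ' _ hg
              simpa using this
            have hDt : D ≠ ⊤ := by
              intro h
              apply hZne
              rw [eq_top_iff, ← hgen, Subgroup.closure_le]
              rintro _ ⟨g, rfl⟩
              have h3 : g ∈ D := by rw [h]; trivial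
              rw [hDm, eq_comm, QuotientGroup.eq] at h3
              have h4 : σ g * g⁻¹ = g⁻¹ * σ g := by
                have := hcen _ h3 g
                calc σ g * g⁻¹ = g * (g⁻¹ * σ g) * g⁻¹ := by group
                  _ = (g⁻¹ * σ g) * g * g⁻¹ := by rw [this]
                  _ = _ := by group
              show σ g * g⁻¹ ∈ Subgroup.center P
              rw [h4]
              exact h3
            exact (hmin D hDn hDσ hDt).1 ((hDm g).2 hy)
          exact (QuotientGroup.eq_one_iff g).2 hD
    rw [h2, ← Nat.card_eq_fintype_card] at h1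
    exact h1

/-- **`s`-groups normalised by an element of prime order larger than the dimension.** -/
theorem pgroup_case {G : Type*} [Group G] (ρ : G →* (W →ₗ[K] W)) (hρ : Function.Injective ρ)
    (x : G) {r : ℕ} (hr : r.Prime) (hx : x ^ r = 1) (hn : Module.finrank K W < r) {s : ℕ} (hs : s.Prime) (hsr : s ≠ r)
    (hsK : (s : K) ≠ 0) : ∀ (n : ℕ) (P : Subgroup G), Nat.card P = n → Finite P → IsPGroup s P →
      (∀ g ∈ P, x * g * x⁻¹ ∈ P) → (∃ g ∈ P, x * g * x⁻¹ ≠ g) →
      s = 2 ∧ r = Module.finrank K W + 1 ∧ ∃ m : ℕ, Module.finrank K W = 2 ^ m := by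
  intro n
  induction n using Nat.strong_induction_on with
  | _ n ih =>
    intro P hcard hfin hP hxP hnc
    have hs' : Fact s.Prime := ⟨hs⟩
    by_cases hsmall : ∃ Q : Subgroup G, Q < P ∧ (∀ g ∈ Q, x * g * x⁻¹ ∈ Q) ∧ ∃ g ∈ Q, x * g * x⁻¹ ≠ g
    · obtain ⟨Q, hQP, hxQ, hQn⟩ := hsmall
      have hQf : Finite Q := Finite.of_injective _ (Subgroup.inclusion_injective hQP.le)
      refine ih (Nat.card Q) ?_ Q rfl hQf (hP.to_le hQP.le) hxQ hQn
      rw [← hcard]
      exact lt_of_le_of_ne (Nat.le_of_dvd Nat.card_pos (Subgroup.card_dvd_of_le hQP.le))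
        fun h => hQP.ne (Subgroup.eq_of_le_of_card_ge hQP.le h.ge)
    push Not at hsmall
    obtain ⟨k, hk⟩ := hP.exists_card_eq
    have hPK : (Nat.card P : K) ≠ 0 := by
      rw [hk, Nat.cast_pow]
      exact pow_ne_zero _ hsK
    have hnab : ∃ a ∈ P, ∃ b ∈ P, a * b ≠ b * a := by
      by_contra hab
      push Not at hab
      obtain ⟨g, hg, hne⟩ := hnc
      exact hne (centralises_abelian ρ hρ x hr hx hn P hab hPK hxP g hg)
    -- the automorphism of `P`
    let σf : P →* P :=
      { toFun := fun g => ⟨x * g * x⁻¹, hxP g g.2⟩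
        map_one' := by ext; simp
        map_mul' := by intro a b; ext; simp }
    have hσf : Function.Injective σf := by
      intro a b h
      have := congrArg Subtype.val h
      apply Subtype.ext
      simpa [σf] using this
    let σ : MulAut P := MulEquiv.ofBijective σf (Finite.injective_iff_bijective.1 hσf)
    have hσv : ∀ g : P, ((σ g : P) : G) = x * g * x⁻¹ := fun g => rfl
    have hσk : ∀ (k : ℕ) (g : P), (((σ ^ k) g : P) : G) = x ^ k * g * (x ^ k)⁻¹ := by
      intro k
      induction k with
      | zero => intro g; simp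
      | succ k ihk =>
        intro g
        rw [pow_succ, MulAut.mul_apply, ihk, hσv, pow_succ]
        group
    have hσr : σ ^ r = 1 := by
      ext g
      rw [hσk, hx]
      simp
    have hsmall' : ∀ N : Subgroup P, (∀ g ∈ N, σ g ∈ N) → N ≠ ⊤ → ∀ g ∈ N, σ g = g := by
      intro N hN hNt g hg
      have h1 : N.map P.subtype < P := by
        refine lt_of_le_of_ne (Subgroup.map_subtype_le N) fun h => hNt ?_
        rw [eq_top_iff]
        intro y _
        have : (y : G) ∈ N.map P.subtype := by rw [h]; exact y.2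
        obtain ⟨y', hy', he⟩ := this
        have : y' = y := Subtype.ext he
        rwa [← this]
      have h2 := hsmall _ h1 (by
        rintro _ ⟨y, hy, rfl⟩
        exact ⟨σ y, hN y hy, rfl⟩) (g : G) ⟨g, hg, rfl⟩
      exact Subtype.ext h2
    have hgen : Subgroup.closure (Set.range fun g => σ g * g⁻¹) = ⊤ := by
      by_contra hne
      have h1 := hsmall' _ (by
        intro g hg
        induction hg using Subgroup.closure_induction with
        | mem g hg =>
          obtain ⟨h, rfl⟩ := hg
          refine Subgroup.subset_closure ⟨σ h, ?_⟩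
          simp
        | one => simp
        | mul a b _ _ ha hb => rw [map_mul]; exact Subgroup.mul_mem _ ha hb
        | inv a _ ha => rw [map_inv]; exact Subgroup.inv_mem _ ha) hne
      obtain ⟨g, hg, hgne⟩ := hnc
      apply hgne
      set g' : P := ⟨g, hg⟩ with hg'
      have h2 : σ (σ g' * g'⁻¹) = σ g' * g'⁻¹ := h1 _ (Subgroup.subset_closure ⟨g', rfl⟩)
      have h3 : ∀ k : ℕ, (σ ^ k) g' = (σ g' * g'⁻¹) ^ k * g' := by
        intro k
        induction k with
        | zero => simp
        | succ k ihk =>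
          rw [pow_succ', MulAut.mul_apply, ihk, map_mul, map_pow, h2, pow_succ, mul_assoc, mul_assoc,
            inv_mul_cancel, mul_one]
      have h4 := h3 r
      rw [hσr, MulAut.one_apply] at h4
      have h5 : (σ g' * g'⁻¹) ^ r = 1 := (mul_eq_right.1 h4.symm)
      have h6 : σ g' * g'⁻¹ = 1 := by
        obtain ⟨j, hj⟩ := IsPGroup.iff_orderOf.1 hP (σ g' * g'⁻¹)
        have h7 := orderOf_dvd_of_pow_eq_one h5
        rw [hj] at h7
        have h8 : s ^ j = 1 := by
          rcases (Nat.dvd_prime hr).1 h7 with h | h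
          · exact h
          · exfalso
            have h9 : r ∣ s ^ j := by rw [h]
            exact hsr ((Nat.prime_dvd_prime_iff_eq hr hs).1 (hr.dvd_of_dvd_pow h9)).symm
        rw [h8] at hj
        exact orderOf_eq_one_iff.1 hj
      exact congrArg Subtype.val (mul_inv_eq_one.1 h6)
    have hmin : ∀ N : Subgroup P, N.Normal → (∀ g ∈ N, σ g ∈ N) → N ≠ ⊤ →
        N ≤ Subgroup.center P ∧ ∀ g ∈ N, σ g = g := by
      intro N hNn hN hNt
      have hfix := hsmall' N hN hNt
      refine ⟨?_, hfix⟩
      intro c hc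
      have h1 : (⊤ : Subgroup P) ≤ Subgroup.centralizer ({c} : Set P) := by
        rw [← hgen, Subgroup.closure_le]
        rintro _ ⟨g, rfl⟩
        rw [SetLike.mem_coe, Subgroup.mem_centralizer_singleton_iff]
        have a1 : σ (g⁻¹ * c * g) = g⁻¹ * c * g := hfix _ (by
          have := hNn.conj_mem c hc g⁻¹
          simpa using this)
        have a2 : σ c = c := hfix c hc
        rw [map_mul, map_mul, map_inv, a2] at a1
        calc σ g * g⁻¹ * c = σ g * (g⁻¹ * c * g) * g⁻¹ := by group
          _ = σ g * ((σ g)⁻¹ * c * σ g) * g⁻¹ := by rw [a1]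
          _ = c * (σ g * g⁻¹) := by group
      rw [Subgroup.mem_center_iff]
      intro g
      exact Subgroup.mem_centralizer_singleton_iff.1 (h1 (Subgroup.mem_top g))
    obtain ⟨a, ha, b, hb, hab⟩ := hnab
    have hPnt : Nontrivial P := by
      refine ⟨⟨a, ha⟩, 1, fun h => hab ?_⟩
      have h1 : a = 1 := congrArg Subtype.val h
      rw [h1, one_mul, mul_one]
    have hsolv : Group.IsSolvable P := by
      have := hP.isNilpotent
      infer_instance
    have hcomm : commutator P ≠ ⊤ := (Group.IsSolvable.commutator_lt_top_of_nontrivial P).ne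
    have hnab' : ∃ a b : P, a * b ≠ b * a := ⟨⟨a, ha⟩, ⟨b, hb⟩, fun h => hab (congrArg Subtype.val h)⟩
    obtain ⟨d, hd1, hd2, hd3⟩ := minimal_case (ρ.comp P.subtype) (hρ.comp P.subtype_injective) hPK hr σ hσr hgen
      hnab' hmin hcomm
    -- `d` is a power of `s`
    have hdk : ∃ m, d = s ^ m := by
      have h1 : d ∣ s ^ k := by
        rw [← hk]
        refine (Dvd.intro_left d (by rw [← sq, ← hd1] : d * d = (Subgroup.center P).index)).trans ?_
        exact Subgroup.index_dvd_card _
      obtain ⟨m, -, hm⟩ := (Nat.dvd_prime_pow hs).1 h1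
      exact ⟨m, hm⟩
    have hd0 : 2 ≤ d := by
      by_contra hlt
      have h1 : (Subgroup.center P).index ≠ 0 := Subgroup.index_ne_zero_of_finite
      have h2 : d = 1 := by
        have : d ≠ 0 := by
          rintro rfl
          exact h1 (by rw [hd1]; rfl)
        omega
      rw [h2, one_pow, Subgroup.index_eq_one] at hd1
      obtain ⟨a, b, hab⟩ := hnab'
      apply hab
      have : a ∈ Subgroup.center P := by rw [hd1]; trivial
      exact (Subgroup.mem_center_iff.1 this b).symm
    have hdr : r ∣ d + 1 := by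
      have h1 : r ∣ d ^ 2 - 1 := (Nat.modEq_iff_dvd' (Nat.one_le_pow _ _ (by omega))).1 hd3.symm
      have h2 : d ^ 2 - 1 = (d + 1) * (d - 1) := by
        have := Nat.sq_sub_sq d 1
        simpa using this
      rw [h2] at h1
      rcases hr.dvd_mul.1 h1 with h | h
      · exact h
      · have := Nat.le_of_dvd (by omega) h
        omega
    have hr1 : r = d + 1 := by
      have := Nat.le_of_dvd (by omega) hdr
      omega
    have hnd : Module.finrank K W = d := by omega
    obtain ⟨m, hm⟩ := hdk
    have hs2 : s = 2 := by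
      rcases hs.eq_two_or_odd' with h | h
      · exact h
      · exfalso
        have h1 : Odd d := by rw [hm]; exact h.pow
        have h2 : Even r := by rw [hr1]; exact h1.add_one
        have h3 : r = 2 := (Nat.Prime.even_iff hr).1 h2
        omega
    refine ⟨hs2, by rw [hnd, hr1], m, by rw [hnd, hm, hs2]⟩

end Weights

end Cfsg.Agent.H273.PalfyRep
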