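import Mathlib
import Cfsg.Agent.H273.PalfyRep
import Cfsg.Agent.H273.PalfyDef
import Cfsg.Agent.H672.Lin
import Cfsg.Agent.Lib.Cores
import Cfsg.Agent.Lib.GenFitting
import Cfsg.Agent.Lib.Zsigmondy
import Cfsg.Agent.S0044
import Cfsg.Agent.OddOrderLocal.HallPi
import Cfsg.Agent.Solvable.HallAux

/-!
# The linear group half of Pálfy's three primes theorem

`kp : KP` of `Cfsg.Agent.H273.PalfyDef`.  The fixed point subgroups of the Sylow `a`-subgroups form a partition of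
`V`, `|V| = ℓ ^ n`, so a primitive prime divisor `z` of `ℓ ^ n - 1` divides `|H|`, and elements of order `z` act
irreducibly.  If `O_z(H) ≠ 1` then `H` has a normal subgroup `L` of order `z` and the characters over a nontrivial
character of `L` have degree divisible by `a * b`.  Otherwise an element of order `z > n` acts nontrivially on some
`O_s(H)`, so `s = 2`, `z = n + 1`, `n = 2 ^ m`, and a Hall `{a, z}`-subgroup gives a contradiction.
-/

set_option autoImplicit false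
set_option linter.unusedSectionVars false

namespace Cfsg.Agent.H273.PalfyKP

open Cfsg.Agent.H273.PalfyRep Cfsg.Agent.H273.Palfy

universe u v

/-- a finite group acting on an elementary abelian group, as linear maps -/
noncomputable def toEnd (H : Type u) [Group H] (V : Type v) [CommGroup V] [MulDistribMulAction H V] (ℓ : ℕ)
    [Module (ZMod ℓ) (Additive V)] : H →* Module.End (ZMod ℓ) (Additive V) where
  toFun := fun h => AddMonoidHom.toZModLinearMap ℓ (MonoidHom.toAdditive (MulDistribMulAction.toMonoidHom V h))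
  map_one' := by
    apply LinearMap.ext
    intro w
    exact congrArg Additive.ofMul (one_smul H (Additive.toMul w))
  map_mul' := by
    intro a b
    apply LinearMap.ext
    intro w
    exact congrArg Additive.ofMul (mul_smul a b (Additive.toMul w))

theorem toEnd_injective (H : Type u) [Group H] (V : Type v) [CommGroup V] [MulDistribMulAction H V] (ℓ : ℕ)
    [Module (ZMod ℓ) (Additive V)] (hf : ∀ h : H, (∀ v : V, h • v = v) → h = 1) :
    Function.Injective (toEnd H V ℓ) := by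
  intro a b hab
  have h1 : a⁻¹ * b = 1 := by
    apply hf
    intro v
    have h2 : a • v = b • v := Additive.ofMul.injective (LinearMap.congr_fun hab (Additive.ofMul v))
    rw [mul_smul, ← h2, inv_smul_smul]
  exact inv_mul_eq_one.1 h1

theorem exists_rep_aux {H : Type u} [Group H] {V : Type v} [CommGroup V] [Finite V] [MulDistribMulAction H V] {ℓ : ℕ}
    [hℓ : Fact ℓ.Prime] [Module (ZMod ℓ) (Additive V)] (hf : ∀ h : H, (∀ v : V, h • v = v) → h = 1) :
    ∃ (K : Type) (_ : Field K) (_ : IsAlgClosed K) (_ : CharP K ℓ) (n : ℕ)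
      (ρ : H →* ((Fin n → K) →ₗ[K] (Fin n → K))), Function.Injective ρ ∧ Nat.card V = ℓ ^ n := by
  let K := AlgebraicClosure (ZMod ℓ)
  have hchar : CharP K ℓ := charP_of_injective_algebraMap (algebraMap (ZMod ℓ) K).injective ℓ
  let n := Module.finrank (ZMod ℓ) (Additive V)
  let b : Module.Basis (Fin n) (ZMod ℓ) (Additive V) := Module.finBasis (ZMod ℓ) (Additive V)
  let ρ := ((Matrix.toLinAlgEquiv' (R := K) (n := Fin n)).toMulEquiv.toMonoidHom).comp
    (((algebraMap (ZMod ℓ) K).mapMatrix (m := Fin n)).toMonoidHom.comp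
    ((LinearMap.toMatrixAlgEquiv b).toMulEquiv.toMonoidHom.comp (toEnd H V ℓ)))
  refine ⟨K, inferInstance, inferInstance, hchar, n, ρ, ?_, ?_⟩
  · intro x y hxy
    have h1 := (Matrix.toLinAlgEquiv' (R := K) (n := Fin n)).injective hxy
    have h2 := Matrix.map_injective (m := Fin n) (n := Fin n) (algebraMap (ZMod ℓ) K).injective h1
    exact toEnd_injective H V ℓ hf ((LinearMap.toMatrixAlgEquiv b).injective h2)
  · have h1 := Module.natCard_eq_pow_finrank (K := ZMod ℓ) (V := Additive V)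
    rw [Nat.card_zmod] at h1
    exact h1

/-- a faithful representation over an algebraic closure -/
theorem exists_rep {H : Type u} [Group H] {V : Type v} [CommGroup V] [Finite V] [MulDistribMulAction H V] {ℓ : ℕ}
    [hℓ : Fact ℓ.Prime] (hV : ∀ v : V, v ^ ℓ = 1) (hf : ∀ h : H, (∀ v : V, h • v = v) → h = 1) :
    ∃ (K : Type) (_ : Field K) (_ : IsAlgClosed K) (_ : CharP K ℓ) (n : ℕ)
      (ρ : H →* ((Fin n → K) →ₗ[K] (Fin n → K))), Function.Injective ρ ∧ Nat.card V = ℓ ^ n := by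
  have hV' : ∀ v : Additive V, ℓ • v = 0 := hV
  exact @exists_rep_aux H _ V _ _ _ ℓ _ (AddCommGroup.zmodModule hV') hf

section Transfer

variable {H : Type u} [Group H] {V : Type v} [CommGroup V] [Finite V] [MulDistribMulAction H V] {ℓ : ℕ}
    [hℓ : Fact ℓ.Prime]

theorem cent_abelian (hV : ∀ v : V, v ^ ℓ = 1) (hf : ∀ h : H, (∀ v : V, h • v = v) → h = 1) {n : ℕ}
    (hcard : Nat.card V = ℓ ^ n) (x : H) {r : ℕ} (hr : r.Prime) (hx : x ^ r = 1) (hn : n < r)
    (P : Subgroup H) [Finite P] (hab : ∀ a ∈ P, ∀ b ∈ P, a * b = b * a) (hP : ¬ ℓ ∣ Nat.card P)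
    (hxP : ∀ g ∈ P, x * g * x⁻¹ ∈ P) : ∀ g ∈ P, x * g * x⁻¹ = g := by
  obtain ⟨K, _, _, _, n', ρ, hρ, hn'⟩ := exists_rep hV hf
  have h1 : n' = n := Nat.pow_right_injective hℓ.out.two_le (by show ℓ ^ n' = ℓ ^ n; rw [← hn', hcard])
  subst h1
  refine centralises_abelian ρ hρ x hr hx ?_ P hab ?_ hxP
  · rw [Module.finrank_pi, Fintype.card_fin]; exact hn
  · rw [Ne, CharP.cast_eq_zero_iff K ℓ]; exact hP

theorem cent_pgroup (hV : ∀ v : V, v ^ ℓ = 1) (hf : ∀ h : H, (∀ v : V, h • v = v) → h = 1) {n : ℕ}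
    (hcard : Nat.card V = ℓ ^ n) (x : H) {r : ℕ} (hr : r.Prime) (hx : x ^ r = 1) (hn : n < r)
    {s : ℕ} (hs : s.Prime) (hsr : s ≠ r) (hsℓ : s ≠ ℓ) (P : Subgroup H) [Finite P] (hP : IsPGroup s P)
    (hxP : ∀ g ∈ P, x * g * x⁻¹ ∈ P) (hne : ∃ g ∈ P, x * g * x⁻¹ ≠ g) :
    s = 2 ∧ r = n + 1 ∧ ∃ m : ℕ, n = 2 ^ m := by
  obtain ⟨K, _, _, _, n', ρ, hρ, hn'⟩ := exists_rep hV hf
  have h1 : n' = n := Nat.pow_right_injective hℓ.out.two_le (by show ℓ ^ n' = ℓ ^ n; rw [← hn', hcard])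
  subst h1
  have h2 : Module.finrank K (Fin n' → K) = n' := by rw [Module.finrank_pi, Fintype.card_fin]
  have h3 := pgroup_case ρ hρ x hr hx (by rw [h2]; exact hn) hs hsr (by
    rw [Ne, CharP.cast_eq_zero_iff K ℓ, Nat.prime_dvd_prime_iff_eq hℓ.out hs]
    exact fun h => hsℓ h.symm) _ P rfl inferInstance hP hxP hne
  rwa [h2] at h3

end Transfer

section Fix

variable {H : Type u} [Group H] {V : Type v} [CommGroup V] [MulDistribMulAction H V]

/-- the fixed points of a subgroup -/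
def fixV (A : Subgroup H) (V : Type v) [CommGroup V] [MulDistribMulAction H V] : Subgroup V where
  carrier := {v | ∀ h ∈ A, h • v = v}
  mul_mem' := by
    intro a b ha hb h hh
    rw [smul_mul', ha h hh, hb h hh]
  one_mem' := by
    intro h _
    exact smul_one h
  inv_mem' := by
    intro a ha h hh
    rw [smul_inv', ha h hh]

theorem mem_fixV {A : Subgroup H} {v : V} : v ∈ fixV A V ↔ ∀ h ∈ A, h • v = v := Iff.rfl

theorem card_fixV_smul [Finite V] {p : ℕ} (A : Sylow p H) (g : H) :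
    Nat.card (fixV (g • A : Sylow p H).1 V) = Nat.card (fixV A.1 V) := by
  have hm : ∀ h, h ∈ (g • A : Sylow p H).1 ↔ g⁻¹ * h * g ∈ A.1 := by
    intro h
    show h ∈ ((g • A : Sylow p H) : Subgroup H) ↔ _
    rw [Sylow.coe_subgroup_smul, Subgroup.mem_pointwise_smul_iff_inv_smul_mem]
    rw [← map_inv, MulAut.smul_def, MulAut.conj_apply, inv_inv]
  refine Nat.card_congr ⟨fun v => ⟨g⁻¹ • (v : V), ?_⟩, fun v => ⟨g • (v : V), ?_⟩, ?_, ?_⟩
  · intro h hh
    have h1 : g * h * g⁻¹ ∈ (g • A : Sylow p H).1 := by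
      rw [hm]
      have : g⁻¹ * (g * h * g⁻¹) * g = h := by group
      rwa [this]
    have h2 := v.2 _ h1
    have h3 := congrArg (fun w => g⁻¹ • w) h2
    simp only [← mul_smul] at h3
    rw [← mul_smul, ← h3]
    congr 1
    group
  · intro h hh
    have h1 := (hm h).1 hh
    have h2 := v.2 _ h1
    have h3 := congrArg (fun w => g • w) h2
    simp only [← mul_smul] at h3
    rw [← mul_smul, ← h3]
    congr 1
    group
  · intro v
    apply Subtype.ext
    simp
  · intro v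
    apply Subtype.ext
    simp

theorem card_fixV_eq [Finite V] [Finite H] {p : ℕ} [Fact p.Prime] (A B : Sylow p H) :
    Nat.card (fixV A.1 V) = Nat.card (fixV B.1 V) := by
  obtain ⟨g, hg⟩ := MulAction.exists_smul_eq H A B
  rw [← hg, card_fixV_smul]

/-- The fixed point subgroups of the Sylow subgroups form a partition. -/
theorem card_partition [Finite V] [Finite H] {p : ℕ} [Fact p.Prime] (hU : Cfsg.Agent.H273.Palfy.UniqueSylow p H V)
    (A : Sylow p H) : Nat.card (Sylow p H) * (Nat.card (fixV A.1 V) - 1) = Nat.card V - 1 := by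
  classical
  choose f hf using hU
  have : Fintype (Sylow p H) := Fintype.ofFinite _
  have : Fintype V := Fintype.ofFinite _
  have hcard : ∀ (U : Subgroup V), Nat.card {v : U // v ≠ 1} = Nat.card U - 1 := by
    intro U
    have : Fintype U := Fintype.ofFinite _
    rw [Nat.card_eq_fintype_card, Nat.card_eq_fintype_card, Fintype.card_subtype_compl, Fintype.card_subtype_eq]
  have h1 : Nat.card {v : V // v ≠ 1} = Nat.card V - 1 := by
    rw [Nat.card_eq_fintype_card, Nat.card_eq_fintype_card, Fintype.card_subtype_compl, Fintype.card_subtype_eq]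
  have hff : ∀ (v : V) (hv : v ≠ 1) (B : Sylow p H), f v hv = B ↔ v ∈ fixV B.1 V := by
    intro v hv B
    constructor
    · rintro rfl
      exact (hf v hv).2.1
    · intro h
      exact ((hf v hv).2.2 B h).symm
  rw [← h1, ← Nat.card_congr (Equiv.sigmaFiberEquiv (fun v : {v : V // v ≠ 1} => f v v.2)), Nat.card_sigma]
  have h2 : ∀ B : Sylow p H, Nat.card {v : {v : V // v ≠ 1} // f v v.2 = B} = Nat.card (fixV A.1 V) - 1 := by
    intro B
    rw [card_fixV_eq A B, ← hcard]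
    refine Nat.card_congr ⟨fun v => ⟨⟨v.1.1, (hff _ _ B).1 v.2⟩, fun h => v.1.2 (congrArg Subtype.val h)⟩,
      fun v => ⟨⟨v.1.1, fun h => v.2 (Subtype.ext h)⟩, (hff _ _ B).2 v.1.2⟩, fun v => rfl, fun v => rfl⟩
  rw [Finset.sum_congr rfl fun B _ => h2 B, Finset.sum_const, Finset.card_univ, Nat.card_eq_fintype_card, smul_eq_mul]

theorem one_lt_card_fixV [Finite V] [Nontrivial V] [Finite H] {p : ℕ} [Fact p.Prime]
    (hU : Cfsg.Agent.H273.Palfy.UniqueSylow p H V) (A : Sylow p H) : 1 < Nat.card (fixV A.1 V) := by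
  have h1 := card_partition hU A
  have h2 : 1 < Nat.card V := Finite.one_lt_card
  by_contra h
  have h3 : Nat.card (fixV A.1 V) - 1 = 0 := by omega
  rw [h3, mul_zero] at h1
  omega

/-- every element of order `p` fixes a nontrivial vector -/
theorem exists_fixed [Finite V] [Nontrivial V] [Finite H] {p : ℕ} [Fact p.Prime]
    (hU : Cfsg.Agent.H273.Palfy.UniqueSylow p H V) (α : H) (hα : ∃ k : ℕ, orderOf α = p ^ k) :
    ∃ v : V, v ≠ 1 ∧ α • v = v := by
  have h1 : IsPGroup p (Subgroup.zpowers α) := by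
    rw [IsPGroup.iff_card]
    obtain ⟨k, hk⟩ := hα
    exact ⟨k, by rw [Nat.card_zpowers, hk]⟩
  obtain ⟨A, hA⟩ := h1.exists_le_sylow
  have h2 := one_lt_card_fixV hU A
  have : Nontrivial (fixV A.1 V) := Finite.one_lt_card_iff_nontrivial.1 h2
  obtain ⟨v, hv⟩ := exists_ne (1 : fixV A.1 V)
  exact ⟨v, fun h => hv (Subtype.ext h), v.2 α (hA (Subgroup.mem_zpowers α))⟩

end Fix

section Irr

variable {H : Type u} [Group H] {V : Type v} [CommGroup V] [Finite V] [MulDistribMulAction H V]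

theorem card_mod {z : ℕ} [hz : Fact z.Prime] (ζ : H) (hζ : ζ ^ z = 1) (U : Subgroup V) (hU : ∀ u ∈ U, ζ • u ∈ U) :
    Nat.card U ≡ Nat.card (U ⊓ fixV (Subgroup.zpowers ζ) V : Subgroup V) [MOD z] := by
  classical
  have : Fintype U := Fintype.ofFinite _
  let f : Function.End U := fun u => ⟨ζ • (u : V), hU u u.2⟩
  have hfk : ∀ (k : ℕ) (u : U), (((f ^ k) u : U) : V) = ζ ^ k • (u : V) := by
    intro k
    induction k with
    | zero => intro u; rw [pow_zero, pow_zero, one_smul]; rfl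
    | succ k ih =>
      intro u
      rw [pow_succ]
      show (((f ^ k) (f u) : U) : V) = _
      rw [ih, pow_succ, mul_smul]
  have hf1 : f ^ z ^ 1 = 1 := by
    funext u
    apply Subtype.ext
    rw [pow_one, hfk, hζ, one_smul]; rfl
  have h1 := Equiv.Perm.card_fixedPoints_modEq (p := z) hf1
  have h2 : ∀ (inst : Fintype f.fixedPoints), @Fintype.card _ inst
      = Nat.card (U ⊓ fixV (Subgroup.zpowers ζ) V : Subgroup V) := by
    intro inst
    rw [← Nat.card_eq_fintype_card]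
    refine Nat.card_congr ⟨fun u => ⟨(u : U), u.1.2, ?_⟩, fun u => ⟨⟨u, u.2.1⟩, ?_⟩, fun u => rfl, fun u => rfl⟩
    · intro h hh
      obtain ⟨k, rfl⟩ := hh
      have h3 : ζ • ((u : U) : V) = u := congrArg Subtype.val u.2
      have h4 : ζ ∈ MulAction.stabilizer H ((u : U) : V) := h3
      exact Subgroup.zpow_mem _ h4 k
    · apply Subtype.ext
      exact u.2.2 ζ (Subgroup.mem_zpowers ζ)
  rw [h2, ← Nat.card_eq_fintype_card] at h1
  exact h1

variable {ℓ : ℕ} [hℓ : Fact ℓ.Prime]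

theorem dvd_sub_of_modEq {z i j : ℕ} (hz : z.Prime) (hzℓ : ¬ z ∣ ℓ) (hji : j ≤ i) (h : ℓ ^ i ≡ ℓ ^ j [MOD z]) :
    z ∣ ℓ ^ (i - j) - 1 := by
  have h1 : z ∣ ℓ ^ i - ℓ ^ j := (Nat.modEq_iff_dvd' (Nat.pow_le_pow_right hℓ.out.pos hji)).1 h.symm
  have h2 : ℓ ^ i - ℓ ^ j = ℓ ^ j * (ℓ ^ (i - j) - 1) := by
    rw [Nat.mul_sub, ← pow_add, Nat.add_sub_cancel' hji, mul_one]
  rw [h2] at h1
  rcases hz.dvd_mul.1 h1 with h3 | h3
  · exact absurd (hz.dvd_of_dvd_pow h3) hzℓ
  · exact h3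

theorem exists_card_pow (hV : ∀ v : V, v ^ ℓ = 1) (U : Subgroup V) : ∃ i, Nat.card U = ℓ ^ i := by
  have h1 : IsPGroup ℓ U := by
    intro u
    exact ⟨1, by rw [pow_one]; exact Subtype.ext (hV u)⟩
  exact IsPGroup.iff_card.1 h1

/-- An element of primitive prime order acts irreducibly. -/
theorem irreducible (hV : ∀ v : V, v ^ ℓ = 1) (hf : ∀ h : H, (∀ v : V, h • v = v) → h = 1) {n : ℕ}
    (hcard : Nat.card V = ℓ ^ n) {z : ℕ} [hz : Fact z.Prime] (hzn : ∀ m, z ∣ ℓ ^ m - 1 ↔ n ∣ m) (hzℓ : ¬ z ∣ ℓ)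
    (ζ : H) (hζ : ζ ^ z = 1) (hζ1 : ζ ≠ 1) (U : Subgroup V) (hU : ∀ u ∈ U, ζ • u ∈ U) : U = ⊥ ∨ U = ⊤ := by
  have hn0 : n ≠ 0 := by
    rintro rfl
    have : (0 : ℕ) ∣ 1 := by
      rw [← hzn 1, pow_one]
      have h1 := (hzn 0).2 (dvd_refl 0)
      -- `z` divides everything
      exfalso
      apply hζ1
      apply hf
      intro v
      rw [pow_zero] at hcard
      have := Nat.card_eq_one_iff_unique.1 hcard
      exact this.1.elim _ _
    omega
  set F := fixV (Subgroup.zpowers ζ) V with hF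
  -- no fixed points
  have hFbot : F = ⊥ := by
    have h1 := card_mod ζ hζ (⊤ : Subgroup V) (fun _ _ => Subgroup.mem_top _)
    rw [top_inf_eq, Subgroup.card_top, hcard] at h1
    obtain ⟨j, hj⟩ := exists_card_pow hV F
    rw [← hF, hj] at h1
    have hjn : j ≤ n := by
      have := Nat.le_of_dvd Nat.card_pos (Subgroup.card_subgroup_dvd_card F)
      rw [hj, hcard] at this
      exact (Nat.pow_le_pow_iff_right hℓ.out.one_lt).1 this
    have h2 := (hzn _).1 (dvd_sub_of_modEq hz.out hzℓ hjn h1)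
    rcases Nat.eq_zero_or_pos j with h3 | h3
    · rw [h3, pow_zero] at hj
      exact Subgroup.card_eq_one.1 hj
    · exfalso
      have h4 : n - j = 0 := Nat.eq_zero_of_dvd_of_lt h2 (by omega)
      have h5 : F = ⊤ := by
        apply Subgroup.eq_top_of_card_eq
        rw [hj, hcard]
        congr 1
        omega
      apply hζ1
      apply hf
      intro v
      have : v ∈ F := by rw [h5]; trivial
      exact this ζ (Subgroup.mem_zpowers ζ)
  have h1 := card_mod ζ hζ U hU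
  rw [← hF, hFbot, inf_bot_eq, Subgroup.card_bot] at h1
  obtain ⟨i, hi⟩ := exists_card_pow hV U
  have hin : i ≤ n := by
    have := Nat.le_of_dvd Nat.card_pos (Subgroup.card_subgroup_dvd_card U)
    rw [hi, hcard] at this
    exact (Nat.pow_le_pow_iff_right hℓ.out.one_lt).1 this
  rw [hi, ← pow_zero ℓ] at h1
  have h2 := (hzn _).1 (dvd_sub_of_modEq hz.out hzℓ (Nat.zero_le i) h1)
  rw [Nat.sub_zero] at h2
  rcases Nat.eq_zero_or_pos i with h3 | h3
  · left
    rw [h3, pow_zero] at hi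
    exact Subgroup.card_eq_one.1 hi
  · right
    apply Subgroup.eq_top_of_card_eq
    rw [hi, hcard]
    congr 1
    have := Nat.le_of_dvd h3 h2
    omega

/-- elements commuting with an irreducible element are semiregular -/
theorem eq_one_of_commute {ζ : H} (hf : ∀ h : H, (∀ v : V, h • v = v) → h = 1)
    (hirr : ∀ U : Subgroup V, (∀ u ∈ U, ζ • u ∈ U) → U = ⊥ ∨ U = ⊤) {h : H} (hc : h * ζ = ζ * h) {v : V} (hv : v ≠ 1)
    (hfix : h • v = v) : h = 1 := by
  have hmem : ∀ w : V, w ∈ fixV (Subgroup.zpowers h) V ↔ h • w = w := by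
    intro w
    constructor
    · intro hw
      exact hw h (Subgroup.mem_zpowers h)
    · rintro hw _ ⟨k, rfl⟩
      have h4 : h ∈ MulAction.stabilizer H w := hw
      exact Subgroup.zpow_mem _ h4 k
  rcases hirr (fixV (Subgroup.zpowers h) V) (by
    intro u hu
    rw [hmem] at hu ⊢
    rw [← mul_smul, hc, mul_smul, hu]) with h1 | h1
  · exfalso
    have : v ∈ fixV (Subgroup.zpowers h) V := (hmem v).2 hfix
    rw [h1, Subgroup.mem_bot] at this
    exact hv this
  · apply hf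
    intro w
    rw [← hmem, h1]
    trivial

theorem norm_eq_one {ζ : H} (hf : ∀ h : H, (∀ v : V, h • v = v) → h = 1)
    (hirr : ∀ U : Subgroup V, (∀ u ∈ U, ζ • u ∈ U) → U = ⊥ ∨ U = ⊤) {z : ℕ} {η : H} (hc : η * ζ = ζ * η)
    (hη : η ^ z = 1) (hη1 : η ≠ 1) (v : V) : ∏ i ∈ Finset.range z, η ^ i • v = 1 := by
  by_contra hne
  apply hη1
  refine eq_one_of_commute hf hirr hc hne ?_
  rw [Finset.smul_prod']
  have h1 := Finset.prod_range_succ (fun i => η ^ i • v) z
  have h2 := Finset.prod_range_succ' (fun i => η ^ i • v) z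
  rw [h1, hη, pow_zero] at h2
  have h3 := mul_right_cancel h2
  rw [h3]
  refine Finset.prod_congr rfl fun i _ => ?_
  rw [← mul_smul, ← pow_succ']

/-- Elements of order `z` commuting with the irreducible element `ζ` of order `z` are powers of `ζ`. -/
theorem mem_zpowers [Nontrivial V] (hV : ∀ v : V, v ^ ℓ = 1) (hf : ∀ h : H, (∀ v : V, h • v = v) → h = 1) {z : ℕ}
    (hz : z.Prime) (hzℓ : ¬ z ∣ ℓ) {ζ : H} (hirr : ∀ U : Subgroup V, (∀ u ∈ U, ζ • u ∈ U) → U = ⊥ ∨ U = ⊤)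
    (hζ : ζ ^ z = 1) (hζ1 : ζ ≠ 1) {ξ : H} (hξ : ξ ^ z = 1) (hc : ξ * ζ = ζ * ξ) : ξ ∈ Subgroup.zpowers ζ := by
  by_contra hne
  obtain ⟨v, hv⟩ := exists_ne (1 : V)
  apply hv
  have hC : Commute ξ ζ := hc
  -- the double product
  have hS1 : ∏ i ∈ Finset.range z, ∏ j ∈ Finset.range z, (ξ * ζ ^ i) ^ j • v = 1 := by
    refine Finset.prod_eq_one fun i _ => ?_
    refine norm_eq_one hf hirr ?_ ?_ ?_ v
    · exact (hC.mul_left ((Commute.refl ζ).pow_left i)).eq
    · rw [(hC.pow_right i).mul_pow, hξ, one_mul, ← pow_mul, mul_comm, pow_mul, hζ, one_pow]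
    · intro h
      apply hne
      rw [mul_eq_one_iff_eq_inv.1 h]
      exact Subgroup.inv_mem _ (Subgroup.pow_mem _ (Subgroup.mem_zpowers ζ) i)
  have hord : orderOf ζ = z := orderOf_eq_prime hζ hζ1 (hp := ⟨hz⟩)
  have hS2 : ∏ i ∈ Finset.range z, ∏ j ∈ Finset.range z, (ξ * ζ ^ i) ^ j • v = v ^ z := by
    rw [Finset.prod_comm]
    have h0 : 0 ∈ Finset.range z := Finset.mem_range.2 hz.pos
    rw [← Finset.mul_prod_erase _ _ h0]
    have h1 : ∏ x ∈ Finset.range z, (ξ * ζ ^ x) ^ 0 • v = v ^ z := by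
      simp
    have h2 : ∏ x ∈ (Finset.range z).erase 0, ∏ y ∈ Finset.range z, (ξ * ζ ^ y) ^ x • v = 1 := by
      refine Finset.prod_eq_one fun j hj => ?_
      have hj0 : j ≠ 0 := Finset.ne_of_mem_erase hj
      have hjz : j < z := Finset.mem_range.1 (Finset.mem_of_mem_erase hj)
      have h3 : ∀ y : ℕ, (ξ * ζ ^ y) ^ j • v = ξ ^ j • ((ζ ^ j) ^ y • v) := by
        intro y
        rw [(hC.pow_right y).mul_pow, mul_smul, ← pow_mul, ← pow_mul, mul_comm y j]
      rw [Finset.prod_congr rfl fun y _ => h3 y, ← Finset.smul_prod']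
      rw [norm_eq_one hf hirr (z := z) (η := ζ ^ j) ?_ ?_ ?_ v, smul_one]
      · exact ((Commute.refl ζ).pow_left j).eq
      · rw [← pow_mul, mul_comm, pow_mul, hζ, one_pow]
      · intro h
        have := Nat.le_of_dvd (by omega) (hord ▸ orderOf_dvd_of_pow_eq_one h)
        omega
    rw [h1, h2, mul_one]
  rw [hS1] at hS2
  have h4 := pow_gcd_eq_one.2 ⟨hS2.symm, hV v⟩
  have h5 : z.gcd ℓ = 1 := (Nat.Prime.coprime_iff_not_dvd hz).2 hzℓ
  rwa [h5, pow_one] at h4

end Irr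

section Normal

variable {H : Type u} [Group H] [Finite H] {V : Type v} [CommGroup V] [Finite V] [Nontrivial V]
  [MulDistribMulAction H V] {ℓ : ℕ} [hℓ : Fact ℓ.Prime]

/-- A normal subgroup of exponent `z`: a character of degree divisible by `a * b`. -/
theorem case_normal (hV : ∀ v : V, v ^ ℓ = 1) (hf : ∀ h : H, (∀ v : V, h • v = v) → h = 1) {a b : ℕ}
    [ha : Fact a.Prime] [hb : Fact b.Prime] (hab : a ≠ b) (hUa : UniqueSylow a H V) (hUb : UniqueSylow b H V)
    (haH : a ∣ Nat.card H) (hbH : b ∣ Nat.card H) {z : ℕ} [hz : Fact z.Prime] (hzℓ : ¬ z ∣ ℓ)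
    (hirr : ∀ ζ : H, ζ ^ z = 1 → ζ ≠ 1 → ∀ U : Subgroup V, (∀ u ∈ U, ζ • u ∈ U) → U = ⊥ ∨ U = ⊤)
    (L : Subgroup H) [hLn : L.Normal] (hL1 : L ≠ ⊥) (hLc : ∀ x ∈ L, ∀ y ∈ L, x * y = y * x) (hLz : ∀ x ∈ L, x ^ z = 1) :
    ∃ χ : Cfsg.IrrCharacter H, a * b ∣ Cfsg.charDegree (χ : H → ℂ) := by
  obtain ⟨ζ, hζL, hζ1⟩ : ∃ ζ ∈ L, ζ ≠ 1 := by
    have : Nontrivial L := (Subgroup.nontrivial_iff_ne_bot L).2 hL1
    obtain ⟨x, hx⟩ := exists_ne (1 : L)
    exact ⟨x, x.2, fun h => hx (Subtype.ext h)⟩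
  have hζ := hLz ζ hζL
  have hi := hirr ζ hζ hζ1
  have hLle : L ≤ Subgroup.zpowers ζ := fun ξ hξ =>
    mem_zpowers hV hf hz.out hzℓ hi hζ hζ1 (hLz ξ hξ) (hLc ξ hξ ζ hζL)
  have hord : orderOf ζ = z := orderOf_eq_prime hζ hζ1
  have hcardL : Nat.card L = z := by
    have h1 : L = Subgroup.zpowers ζ := le_antisymm hLle (Subgroup.zpowers_le.2 hζL)
    rw [h1, Nat.card_zpowers, hord]
  let _ : CommGroup L := { (inferInstance : Group L) with mul_comm := fun x y => Subtype.ext (hLc x x.2 y y.2) }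
  obtain ⟨l, hl⟩ := CommGroup.exists_apply_ne_one_of_hasEnoughRootsOfUnity L ℂ (a := (⟨ζ, hζL⟩ : L))
    (fun h => hζ1 (congrArg Subtype.val h))
  have hker : l.ker = ⊥ := by
    rcases Subgroup.eq_bot_or_eq_top_of_prime_card (G := L) (hp := ⟨hcardL ▸ hz.out⟩) l.ker with h | h
    · exact h
    · exfalso
      apply hl
      have : (⟨ζ, hζL⟩ : L) ∈ l.ker := by rw [h]; trivial
      exact this
  obtain ⟨χ, hχ, hover⟩ := H672.exists_over L (H672.lf l) (H672.isIrr_lf l)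
  have hdvd := H672.index_mul_charDegree_dvd L hχ (H672.isIrr_lf l) hover
  have hcomm : ∀ α ∈ H672.inertia L (H672.lf l), α * ζ = ζ * α := by
    intro α hα
    rw [H672.mem_inertia_lf] at hα
    have h1 := hα ⟨ζ, hζL⟩
    have h2 : MulAut.conjNormal α (⟨ζ, hζL⟩ : L) = ⟨ζ, hζL⟩ := (MonoidHom.ker_eq_bot_iff l).1 hker h1
    have h3 := congrArg Subtype.val h2
    rw [MulAut.conjNormal_apply] at h3
    exact mul_inv_eq_iff_eq_mul.1 h3
  have key : ∀ (p : ℕ) [Fact p.Prime], UniqueSylow p H V → p ∣ Nat.card H →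
      p ∣ (H672.inertia L (H672.lf l)).index := by
    intro p hp hU hpH
    rw [← Subgroup.card_mul_index (H672.inertia L (H672.lf l))] at hpH
    rcases hp.out.dvd_mul.1 hpH with h | h
    · exfalso
      obtain ⟨α, hα⟩ := exists_prime_orderOf_dvd_card' p h
      have hα' : orderOf (α : H) = p := by rw [Subgroup.orderOf_coe, hα]
      obtain ⟨v, hv, hfix⟩ := exists_fixed hU (α : H) ⟨1, by rw [hα', pow_one]⟩
      have h1 : (α : H) = 1 := eq_one_of_commute hf hi (hcomm α α.2) hv hfix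
      rw [h1, orderOf_one] at hα'
      exact hp.out.one_lt.ne hα'
    · exact h
  refine ⟨⟨χ, hχ⟩, ?_⟩
  have h1 : a * b ∣ (H672.inertia L (H672.lf l)).index :=
    Nat.Coprime.mul_dvd_of_dvd_of_dvd ((Nat.coprime_primes ha.out hb.out).2 hab) (key a hUa haH) (key b hUb hbH)
  exact h1.trans ((Dvd.intro _ rfl).trans hdvd)

/-- If `O_z(H) ≠ 1` we get a character of degree divisible by `a * b`. -/
theorem case_pCore (hV : ∀ v : V, v ^ ℓ = 1) (hf : ∀ h : H, (∀ v : V, h • v = v) → h = 1) {a b : ℕ}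
    [ha : Fact a.Prime] [hb : Fact b.Prime] (hab : a ≠ b) (hUa : UniqueSylow a H V) (hUb : UniqueSylow b H V)
    (haH : a ∣ Nat.card H) (hbH : b ∣ Nat.card H) {z : ℕ} [hz : Fact z.Prime] (hzℓ : ¬ z ∣ ℓ)
    (hirr : ∀ ζ : H, ζ ^ z = 1 → ζ ≠ 1 → ∀ U : Subgroup V, (∀ u ∈ U, ζ • u ∈ U) → U = ⊥ ∨ U = ⊤)
    (hR : Cfsg.pCore z H ≠ ⊥) : ∃ χ : Cfsg.IrrCharacter H, a * b ∣ Cfsg.charDegree (χ : H → ℂ) := by
  let L : Subgroup H :=
    { carrier := {x | x ∈ Cfsg.pCore z H ∧ x ^ z = 1 ∧ ∀ y ∈ Cfsg.pCore z H, x * y = y * x}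
      mul_mem' := by
        rintro x y ⟨hx1, hx2, hx3⟩ ⟨hy1, hy2, hy3⟩
        refine ⟨Subgroup.mul_mem _ hx1 hy1, ?_, ?_⟩
        · rw [(show Commute x y from hx3 y hy1).mul_pow, hx2, hy2, one_mul]
        · intro w hw
          rw [mul_assoc, hy3 w hw, ← mul_assoc, hx3 w hw, mul_assoc]
      one_mem' := ⟨Subgroup.one_mem _, one_pow z, fun y _ => by rw [one_mul, mul_one]⟩
      inv_mem' := by
        rintro x ⟨hx1, hx2, hx3⟩
        refine ⟨Subgroup.inv_mem _ hx1, by rw [inv_pow, hx2, inv_one], fun y hy => ?_⟩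
        exact ((show Commute x y from hx3 y hy).inv_left).eq }
  have hLm : ∀ x, x ∈ L ↔ x ∈ Cfsg.pCore z H ∧ x ^ z = 1 ∧ ∀ y ∈ Cfsg.pCore z H, x * y = y * x := fun x => Iff.rfl
  have hRn : (Cfsg.pCore z H).Normal := Cfsg.Agent.Lib.Cores.pCore_normal z
  have hLn : L.Normal := by
    constructor
    intro x hx g
    rw [hLm] at hx ⊢
    refine ⟨hRn.conj_mem x hx.1 g, by rw [conj_pow, hx.2.1]; group, fun y hy => ?_⟩
    have h1 := hx.2.2 (g⁻¹ * y * g) (by have := hRn.conj_mem y hy g⁻¹; simpa using this)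
    calc g * x * g⁻¹ * y = g * (x * (g⁻¹ * y * g)) * g⁻¹ := by group
      _ = g * ((g⁻¹ * y * g) * x) * g⁻¹ := by rw [h1]
      _ = y * (g * x * g⁻¹) := by group
  have hL1 : L ≠ ⊥ := by
    have hnt : Nontrivial (Cfsg.pCore z H) := (Subgroup.nontrivial_iff_ne_bot _).2 hR
    have hP : IsPGroup z (Cfsg.pCore z H) := Cfsg.Agent.Lib.Cores.pCore_isPGroup z
    have hcn : Nontrivial (Subgroup.center (Cfsg.pCore z H)) := hP.center_nontrivial
    have hPc : IsPGroup z (Subgroup.center (Cfsg.pCore z H)) := hP.to_subgroup _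
    obtain ⟨k, hk⟩ := IsPGroup.iff_card.1 hPc
    have hzd : z ∣ Nat.card (Subgroup.center (Cfsg.pCore z H)) := by
      rcases Nat.eq_zero_or_pos k with h | h
      · exfalso
        rw [h, pow_zero] at hk
        have := Finite.one_lt_card (α := Subgroup.center (Cfsg.pCore z H))
        omega
      · rw [hk]
        exact dvd_pow_self z (by omega)
    obtain ⟨x, hx⟩ := exists_prime_orderOf_dvd_card' z hzd
    intro hbot
    have hxL : ((x : Cfsg.pCore z H) : H) ∈ L := by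
      rw [hLm]
      refine ⟨(x : Cfsg.pCore z H).2, ?_, ?_⟩
      · have h1 : x ^ z = 1 := orderOf_dvd_iff_pow_eq_one.1 hx.dvd
        have h2 := congrArg (fun t : Subgroup.center (Cfsg.pCore z H) => ((t : Cfsg.pCore z H) : H)) h1
        simpa using h2
      · intro y hy
        have h1 := Subgroup.mem_center_iff.1 x.2 ⟨y, hy⟩
        exact (congrArg Subtype.val h1).symm
    rw [hbot, Subgroup.mem_bot] at hxL
    have hx1 : x = 1 := Subtype.ext (Subtype.ext hxL)
    rw [hx1, orderOf_one] at hx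
    exact hz.out.one_lt.ne hx
  exact case_normal hV hf hab hUa hUb haH hbH hzℓ hirr L hL1
    (fun x hx y hy => hx.2.2 y hy.1) (fun x hx => hx.2.1)

theorem pCore_eq_bot {p : ℕ} [Fact p.Prime] (hf : ∀ h : H, (∀ v : V, h • v = v) → h = 1)
    (hU : UniqueSylow p H V) : Cfsg.pCore p H = ⊥ := by
  rw [eq_bot_iff]
  intro h hh
  rw [Subgroup.mem_bot]
  apply hf
  intro v
  by_cases hv : v = 1
  · rw [hv, smul_one]
  · obtain ⟨A, -, hA, -⟩ := hU v hv
    exact hA h (Cfsg.Agent.Lib.Cores.pCore_le_sylow A hh)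

theorem pCore_char_eq_bot (hV : ∀ v : V, v ^ ℓ = 1) (hf : ∀ h : H, (∀ v : V, h • v = v) → h = 1)
    (hirrH : ∀ W : Subgroup V, (∀ h : H, ∀ w ∈ W, h • w ∈ W) → W = ⊥ ∨ W = ⊤) : Cfsg.pCore ℓ H = ⊥ := by
  have hRn : (Cfsg.pCore ℓ H).Normal := Cfsg.Agent.Lib.Cores.pCore_normal ℓ
  have hP : IsPGroup ℓ (Cfsg.pCore ℓ H) := Cfsg.Agent.Lib.Cores.pCore_isPGroup ℓ
  have h1 : fixV (Cfsg.pCore ℓ H) V = ⊤ := by
    refine (hirrH _ ?_).resolve_left ?_
    · intro h w hw g hg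
      have h2 := hw (h⁻¹ * g * h) (by have := hRn.conj_mem g hg h⁻¹; simpa using this)
      have h3 := congrArg (fun t => h • t) h2
      simp only [← mul_smul] at h3
      rw [← mul_smul, ← h3]
      congr 1
      group
    · intro hbot
      have hVp : IsPGroup ℓ V := fun v => ⟨1, by rw [pow_one]; exact hV v⟩
      obtain ⟨k, hk⟩ := IsPGroup.iff_card.1 hVp
      have hℓd : ℓ ∣ Nat.card V := by
        rcases Nat.eq_zero_or_pos k with h | h
        · exfalso
          rw [h, pow_zero] at hk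
          have := Finite.one_lt_card (α := V)
          omega
        · rw [hk]
          exact dvd_pow_self ℓ (by omega)
      have h2 : (1 : V) ∈ MulAction.fixedPoints (Cfsg.pCore ℓ H) V := by
        intro g
        exact smul_one g
      obtain ⟨w, hw, hw1⟩ := hP.exists_fixed_point_of_prime_dvd_card_of_fixed_point V hℓd h2
      have h3 : w ∈ fixV (Cfsg.pCore ℓ H) V := fun g hg => hw ⟨g, hg⟩
      rw [hbot, Subgroup.mem_bot] at h3
      exact hw1 h3.symm
  rw [eq_bot_iff]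
  intro h hh
  rw [Subgroup.mem_bot]
  apply hf
  intro v
  have : v ∈ fixV (Cfsg.pCore ℓ H) V := by rw [h1]; trivial
  exact this h hh

theorem exists_not_central (hsol : Group.IsSolvable H) {p : ℕ} [hp : Fact p.Prime] (hcore : Cfsg.pCore p H = ⊥)
    (x : H) (hx : x ^ p = 1) (hx1 : x ≠ 1) : ∃ s : ℕ, s.Prime ∧ ∃ g ∈ Cfsg.pCore s H, x * g * x⁻¹ ≠ g := by
  by_contra hcon
  push Not at hcon
  have h1 : Cfsg.fittingSubgroup H ≤ Subgroup.centralizer ({x} : Set H) := by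
    rw [Cfsg.Agent.Lib.Cores.fittingSubgroup_eq_iSup_pCore, iSup_le_iff]
    intro s g hg
    rw [Subgroup.mem_centralizer_singleton_iff]
    exact (mul_inv_eq_iff_eq_mul.1 (hcon s s.2 g hg)).symm
  have h2 : x ∈ Subgroup.centralizer (Cfsg.fittingSubgroup H : Set H) := by
    rw [Subgroup.mem_centralizer_iff]
    intro g hg
    exact Subgroup.mem_centralizer_singleton_iff.1 (h1 hg)
  have h3 := Cfsg.Agent.S0044.result h2
  have h4 := Cfsg.Agent.Lib.GenFitting.mem_pCore_of_mem_fitting (p := p) h3 (k := 1) (by rwa [pow_one])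
  rw [hcore, Subgroup.mem_bot] at h4
  exact hx1 h4

/-- An odd prime `p ≠ ℓ` with `UniqueSylow p` does not occur if `z = 2 ^ m + 1`. -/
theorem hall_case (hsol : Group.IsSolvable H) (hV : ∀ v : V, v ^ ℓ = 1)
    (hf : ∀ h : H, (∀ v : V, h • v = v) → h = 1) {n : ℕ} (hcard : Nat.card V = ℓ ^ n) {p : ℕ} [hp : Fact p.Prime]
    (hp2 : p ≠ 2) (hpℓ : p ≠ ℓ) (hU : UniqueSylow p H V) (hpH : p ∣ Nat.card H) {z : ℕ} [hz : Fact z.Prime]
    (hzℓ : ¬ z ∣ ℓ) (hzH : z ∣ Nat.card H) (hnz : n < z)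
    (hirr : ∀ ζ : H, ζ ^ z = 1 → ζ ≠ 1 → ∀ U : Subgroup V, (∀ u ∈ U, ζ • u ∈ U) → U = ⊥ ∨ U = ⊤)
    {m : ℕ} (hm : z = 2 ^ m + 1) : False := by
  -- no element of order `p` commutes with an element of order `z`
  have hno : ∀ ζ : H, ζ ^ z = 1 → ζ ≠ 1 → ∀ α : H, α ^ p = 1 → α * ζ = ζ * α → α = 1 := by
    intro ζ h1 h2 α h3 h4
    obtain ⟨v, hv, hfix⟩ := exists_fixed hU α (by
      rcases (Nat.dvd_prime hp.out).1 (orderOf_dvd_of_pow_eq_one h3) with h | h
      · exact ⟨0, by rw [h, pow_zero]⟩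
      · exact ⟨1, by rw [h, pow_one]⟩)
    exact eq_one_of_commute hf (hirr ζ h1 h2) h4 hv hfix
  obtain ⟨J, hJ1, hJ2, -⟩ := Cfsg.Agent.OddOrderLocal.HallPi.exists_hall_ge_top ({p, z} : Set ℕ) (X := (⊥ : Subgroup H)) (by
    intro q hq hd
    rw [Subgroup.card_bot, Nat.dvd_one] at hd
    exact absurd hd hq.one_lt.ne')
  have hdvd : ∀ q : ℕ, q.Prime → q ∈ ({p, z} : Set ℕ) → q ∣ Nat.card H → q ∣ Nat.card J := by
    intro q hq hqm hqH
    rw [← Subgroup.card_mul_index J] at hqH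
    exact (hq.dvd_mul.1 hqH).resolve_right (hJ2 q hq hqm)
  obtain ⟨α, hα⟩ := exists_prime_orderOf_dvd_card' p (hdvd p hp.out (Or.inl rfl) hpH)
  obtain ⟨ζ, hζ⟩ := exists_prime_orderOf_dvd_card' z (hdvd z hz.out (Or.inr rfl) hzH)
  have hα' : orderOf (α : H) = p := by rw [Subgroup.orderOf_coe, hα]
  have hζ' : orderOf (ζ : H) = z := by rw [Subgroup.orderOf_coe, hζ]
  have hα1 : (α : H) ≠ 1 := by
    intro h
    rw [h, orderOf_one] at hα'
    exact hp.out.one_lt.ne hα'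
  have hζ1 : (ζ : H) ≠ 1 := by
    intro h
    rw [h, orderOf_one] at hζ'
    exact hz.out.one_lt.ne hζ'
  have hαp : (α : H) ^ p = 1 := orderOf_dvd_iff_pow_eq_one.1 hα'.dvd
  have hζz : (ζ : H) ^ z = 1 := orderOf_dvd_iff_pow_eq_one.1 hζ'.dvd
  have hJnt : Nontrivial J := ⟨⟨α, 1, fun h => hα1 (congrArg Subtype.val h)⟩⟩
  have hJs : Group.IsSolvable J := inferInstance
  obtain ⟨q, N, hq, hNn, hN1, hNc, hNq⟩ := Cfsg.Agent.Solvable.HallAux.exists_normal_elementary (G := J)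
  obtain ⟨g, hg⟩ : ∃ g : N, g ≠ 1 := by
    have : Nontrivial N := (Subgroup.nontrivial_iff_ne_bot N).2 hN1
    exact exists_ne 1
  have hg1 : ((g : J) : H) ≠ 1 := fun h => hg (Subtype.ext (Subtype.ext h))
  have hgq : ((g : J) : H) ^ q = 1 := by
    have := congrArg Subtype.val (hNq g g.2)
    simpa using this
  have hqJ : q ∣ Nat.card J := by
    have h1 : orderOf ((g : J) : H) = q := orderOf_eq_prime hgq hg1 (hp := ⟨hq⟩)
    rw [← h1, Subgroup.orderOf_coe]
    exact orderOf_dvd_natCard _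
  have hNcomm : ∀ x ∈ N, ∀ y ∈ N, x * y = y * x := fun x hx y hy =>
    congrArg Subtype.val (hNc.is_comm.comm ⟨x, hx⟩ ⟨y, hy⟩)
  rcases hJ1 q hq hqJ with h | h
  · -- `N` a `p`-group
    have hqp : q = p := h
    subst hqp
    have hcomm := cent_abelian hV hf hcard (ζ : H) hz.out hζz hnz (N.map J.subtype) (by
      rintro _ ⟨x, hx, rfl⟩ _ ⟨y, hy, rfl⟩
      exact congrArg Subtype.val (hNcomm x hx y hy)) (by
      intro hd
      have h1 : IsPGroup q N := fun x => ⟨1, by rw [pow_one]; exact Subtype.ext (hNq x x.2)⟩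
      obtain ⟨k, hk⟩ := IsPGroup.iff_card.1 h1
      rw [Subgroup.card_map_of_injective J.subtype_injective, hk] at hd
      exact hpℓ ((Nat.prime_dvd_prime_iff_eq hℓ.out hq).1 (hℓ.out.dvd_of_dvd_pow hd)).symm) (by
      rintro _ ⟨x, hx, rfl⟩
      exact ⟨ζ * x * ζ⁻¹, hNn.conj_mem x hx ζ, rfl⟩) ((g : J) : H) ⟨g, g.2, rfl⟩
    exact hg1 (hno ζ hζz hζ1 _ hgq (mul_inv_eq_iff_eq_mul.1 hcomm).symm)
  · -- `N` a `z`-group
    have hqz : q = z := h
    subst hqz
    set γ : H := ((g : J) : H) with hγ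
    have hγo : orderOf γ = q := orderOf_eq_prime hgq hg1 (hp := ⟨hq⟩)
    have h1 : (α : H) * γ * (α : H)⁻¹ ∈ Subgroup.zpowers γ := by
      refine mem_zpowers hV hf hq hzℓ (hirr γ hgq hg1) hgq hg1 (by rw [conj_pow, hgq]; group) ?_
      exact congrArg Subtype.val (hNcomm (α * g * α⁻¹) (hNn.conj_mem g g.2 α) g g.2)
    rw [← mem_powers_iff_mem_zpowers] at h1
    obtain ⟨k, hk⟩ := h1
    have hk' : (α : H) * γ * (α : H)⁻¹ = γ ^ k := hk.symm
    have hpow : ∀ j : ℕ, (α : H) ^ j * γ * ((α : H) ^ j)⁻¹ = γ ^ (k ^ j) := by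
      intro j
      induction j with
      | zero => simp
      | succ j ih =>
        have e1 : (α : H) ^ (j + 1) * γ * ((α : H) ^ (j + 1))⁻¹ = (α : H) * ((α : H) ^ j * γ * ((α : H) ^ j)⁻¹) * (α : H)⁻¹ := by
          rw [pow_succ']; group
        rw [e1, ih, ← conj_pow, hk', ← pow_mul, pow_succ, mul_comm]
    have hkp : k ^ p ≡ 1 [MOD q] := by
      have h2 := hpow p
      rw [hαp, one_mul, inv_one, mul_one] at h2
      rw [← hγo]
      exact pow_eq_pow_iff_modEq.1 (by rw [pow_one]; exact h2.symm)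
    have hk0 : (k : ZMod q) ≠ 0 := by
      intro h0
      have h2 : ((k ^ p : ℕ) : ZMod q) = ((1 : ℕ) : ZMod q) := (ZMod.natCast_eq_natCast_iff _ _ _).2 hkp
      rw [Nat.cast_pow, h0, zero_pow hp.out.ne_zero, Nat.cast_one] at h2
      exact zero_ne_one h2
    have hk1 : (k : ZMod q) ^ p = 1 := by
      have h2 : ((k ^ p : ℕ) : ZMod q) = ((1 : ℕ) : ZMod q) := (ZMod.natCast_eq_natCast_iff _ _ _).2 hkp
      rwa [Nat.cast_pow, Nat.cast_one] at h2
    have hk2 : (k : ZMod q) ^ (2 ^ m) = 1 := by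
      have e : q - 1 = 2 ^ m := by omega
      have h2 := ZMod.pow_card_sub_one_eq_one hk0
      rw [e] at h2
      exact h2
    have hk3 : (k : ZMod q) = 1 := by
      have h3 := pow_gcd_eq_one.2 ⟨hk1, hk2⟩
      have h4 : p.gcd (2 ^ m) = 1 := by
        apply Nat.Coprime.pow_right
        exact (Nat.coprime_primes hp.out Nat.prime_two).2 hp2
      rwa [h4, pow_one] at h3
    have hk4 : k ≡ 1 [MOD q] := by
      rw [← ZMod.natCast_eq_natCast_iff, Nat.cast_one]
      exact hk3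
    have h5 : γ ^ k = γ := by
      have := pow_eq_pow_iff_modEq.2 (show k ≡ 1 [MOD orderOf γ] by rw [hγo]; exact hk4)
      rwa [pow_one] at this
    rw [h5] at hk'
    exact hα1 (hno γ hgq hg1 α hαp (mul_inv_eq_iff_eq_mul.1 hk'))

end Normal

section Main

variable {H : Type u} [Group H] [Finite H] {V : Type v} [CommGroup V] [Finite V] [Nontrivial V]
  [MulDistribMulAction H V] {ℓ : ℕ} [hℓ : Fact ℓ.Prime]

/-- the numerical data of a prime with the unique Sylow property -/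
theorem data (hV : ∀ v : V, v ^ ℓ = 1) {n : ℕ}
    (hcard : Nat.card V = ℓ ^ n) {p : ℕ} [hp : Fact p.Prime] (hU : UniqueSylow p H V)
    (hnt : ∃ A : Sylow p H, ∃ h ∈ (A : Subgroup H), ∃ v : V, h • v ≠ v) :
    ∃ c, 1 ≤ c ∧ c < n ∧ (∀ A : Sylow p H, Nat.card (fixV A.1 V) = ℓ ^ c) ∧
      Nat.card (Sylow p H) * (ℓ ^ c - 1) = ℓ ^ n - 1 ∧ p ∣ Nat.card H := by
  obtain ⟨A, h, hh, v, hv⟩ := hnt
  obtain ⟨c, hc⟩ := exists_card_pow hV (fixV A.1 V)
  have h1 := one_lt_card_fixV hU A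
  have h2 := card_partition hU A
  rw [hc] at h1
  rw [hc, hcard] at h2
  have hcn : c ≤ n := by
    have := Nat.le_of_dvd Nat.card_pos (Subgroup.card_subgroup_dvd_card (fixV A.1 V))
    rw [hc, hcard] at this
    exact (Nat.pow_le_pow_iff_right hℓ.out.one_lt).1 this
  refine ⟨c, ?_, lt_of_le_of_ne hcn ?_, fun B => by rw [card_fixV_eq B A, hc], h2, ?_⟩
  · rcases Nat.eq_zero_or_pos c with h3 | h3
    · rw [h3, pow_zero] at h1
      omega
    · exact h3
  · rintro rfl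
    apply hv
    have h5 : fixV A.1 V = ⊤ := by
      apply Subgroup.eq_top_of_card_eq
      rw [hc, hcard]
    have : v ∈ fixV A.1 V := by rw [h5]; trivial
    exact this h hh
  · obtain ⟨k, hk⟩ := IsPGroup.iff_card.1 A.2
    rcases Nat.eq_zero_or_pos k with h3 | h3
    · exfalso
      rw [h3, pow_zero] at hk
      have h4 : (A : Subgroup H) = ⊥ := Subgroup.card_eq_one.1 hk
      rw [h4, Subgroup.mem_bot] at hh
      rw [hh, one_smul] at hv
      exact hv rfl
    · have h4 : p ∣ Nat.card (A : Subgroup H) := by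
        rw [hk]; exact dvd_pow_self p (by omega)
      exact h4.trans (Subgroup.card_subgroup_dvd_card _)

theorem case_generic (hsol : Group.IsSolvable H) (hV : ∀ v : V, v ^ ℓ = 1)
    (hf : ∀ h : H, (∀ v : V, h • v = v) → h = 1)
    (hirrH : ∀ W : Subgroup V, (∀ h : H, ∀ w ∈ W, h • w ∈ W) → W = ⊥ ∨ W = ⊤) {n : ℕ}
    (hcard : Nat.card V = ℓ ^ n) {a b : ℕ} [ha : Fact a.Prime] [hb : Fact b.Prime] (hab : a ≠ b)
    (hUa : UniqueSylow a H V) (hUb : UniqueSylow b H V)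
    (hna : ∃ A : Sylow a H, ∃ h ∈ (A : Subgroup H), ∃ v : V, h • v ≠ v)
    (hnb : ∃ B : Sylow b H, ∃ h ∈ (B : Subgroup H), ∃ v : V, h • v ≠ v) (h2 : n ≠ 2) (h6 : ¬ (ℓ = 2 ∧ n = 6)) :
    ∃ χ : Cfsg.IrrCharacter H, a * b ∣ Cfsg.charDegree (χ : H → ℂ) := by
  obtain ⟨c, hc1, hcn, hcA, hcc, haH⟩ := data hV hcard hUa hna
  obtain ⟨-, -, -, -, -, hbH⟩ := data hV hcard hUb hnb
  obtain ⟨z, hz, hzn, hnz, hzℓ⟩ := Cfsg.Agent.Lib.Zsigmondy.exists_primitive (a := ℓ) (n := n) hℓ.out.two_le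
    (by omega) (fun h => absurd h h2) h6
  have hzf : Fact z.Prime := ⟨hz⟩
  have hzS : z ∣ Nat.card (Sylow a H) := by
    have h3 : z ∣ ℓ ^ n - 1 := (hzn n).2 (dvd_refl n)
    rw [← hcc] at h3
    refine (hz.dvd_mul.1 h3).resolve_right fun h4 => ?_
    have := Nat.le_of_dvd (by omega) ((hzn c).1 h4)
    omega
  have hzH : z ∣ Nat.card H := by
    obtain ⟨A, -⟩ := hna
    exact (hzS.trans (Sylow.card_dvd_index A)).trans (Subgroup.index_dvd_card _)
  have hirr : ∀ ζ : H, ζ ^ z = 1 → ζ ≠ 1 → ∀ U : Subgroup V, (∀ u ∈ U, ζ • u ∈ U) → U = ⊥ ∨ U = ⊤ :=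
    fun ζ h1 h2 U hU => irreducible hV hf hcard hzn hzℓ ζ h1 h2 U hU
  by_cases hR : Cfsg.pCore z H = ⊥
  swap
  · exact case_pCore hV hf hab hUa hUb haH hbH hzℓ hirr hR
  exfalso
  obtain ⟨ζ, hζo⟩ := exists_prime_orderOf_dvd_card' z hzH
  have hζ : ζ ^ z = 1 := orderOf_dvd_iff_pow_eq_one.1 hζo.dvd
  have hζ1 : ζ ≠ 1 := by
    intro h
    rw [h, orderOf_one] at hζo
    exact hz.one_lt.ne hζo
  obtain ⟨s, hs, g, hg, hgne⟩ := exists_not_central hsol hR ζ hζ hζ1
  have hbot : ∀ q, Cfsg.pCore q H = ⊥ → s ≠ q := by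
    rintro q hq rfl
    rw [hq, Subgroup.mem_bot] at hg
    apply hgne
    rw [hg]
    group
  have hsz := hbot z hR
  have hsℓ := hbot ℓ (pCore_char_eq_bot hV hf hirrH)
  have hnz' : n < z := by
    have := Nat.le_of_dvd (by have := hz.two_le; omega) hnz
    have := hz.two_le
    omega
  obtain ⟨rfl, hz1, m, hm⟩ := cent_pgroup hV hf hcard ζ hz hζ hnz' hs hsz hsℓ (Cfsg.pCore s H)
    (Cfsg.Agent.Lib.Cores.pCore_isPGroup s)
    (fun g hg => (Cfsg.Agent.Lib.Cores.pCore_normal s).conj_mem g hg ζ) ⟨g, hg, hgne⟩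
  have hzm : z = 2 ^ m + 1 := by rw [hz1, hm]
  have ha2 := hbot a (pCore_eq_bot hf hUa)
  have hb2 := hbot b (pCore_eq_bot hf hUb)
  by_cases haℓ : a = ℓ
  · exact hall_case hsol hV hf hcard hb2.symm (fun h => hab (haℓ.trans h.symm)) hUb hbH hzℓ hzH hnz' hirr hzm
  · exact hall_case hsol hV hf hcard ha2.symm haℓ hUa haH hzℓ hzH hnz' hirr hzm

theorem case_two (hV : ∀ v : V, v ^ ℓ = 1) (hcard : Nat.card V = ℓ ^ 2) {p : ℕ} [hp : Fact p.Prime]
    (hU : UniqueSylow p H V) (hnt : ∃ A : Sylow p H, ∃ h ∈ (A : Subgroup H), ∃ v : V, h • v ≠ v) : p = ℓ := by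
  obtain ⟨c, hc1, hcn, hcA, hcc, hpH⟩ := data hV hcard hU hnt
  have hc : c = 1 := by omega
  subst hc
  have h1 : Nat.card (Sylow p H) = ℓ + 1 := by
    have h2 := hℓ.out.two_le
    have h3 : ℓ ^ 2 - 1 = (ℓ + 1) * (ℓ - 1) := by
      have := Nat.sq_sub_sq ℓ 1
      rwa [one_pow] at this
    rw [pow_one, h3] at hcc
    exact Nat.eq_of_mul_eq_mul_right (by omega) hcc
  have h2 := card_sylow_modEq_one p H
  rw [h1] at h2
  have h3 : p ∣ ℓ + 1 - 1 := (Nat.modEq_iff_dvd' (by omega)).1 h2.symm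
  rw [Nat.add_sub_cancel] at h3
  exact (Nat.prime_dvd_prime_iff_eq hp.out hℓ.out).1 h3

theorem smul_sylow_eq {p : ℕ} [Fact p.Prime] {v : V} {A : Sylow p H} (hA : ∀ h ∈ (A : Subgroup H), h • v = v)
    (hA' : ∀ C : Sylow p H, (∀ h ∈ (C : Subgroup H), h • v = v) → C = A) {g : H} (hg : g • v = v) : g • A = A := by
  apply hA'
  intro h hh
  rw [Sylow.coe_subgroup_smul, Subgroup.mem_pointwise_smul_iff_inv_smul_mem, ← map_inv, MulAut.smul_def,
    MulAut.conj_apply, inv_inv] at hh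
  have h1 := hA _ hh
  rw [mul_smul, mul_smul, hg] at h1
  have h2 := congrArg (fun w => g • w) h1
  simp only [smul_inv_smul] at h2
  rw [h2, hg]

theorem commute_of_unique {p q : ℕ} [hp : Fact p.Prime] [hq : Fact q.Prime] (hpq : p ≠ q) {v : V} {A : Sylow p H}
    {B : Sylow q H} (hA : ∀ h ∈ (A : Subgroup H), h • v = v)
    (hA' : ∀ C : Sylow p H, (∀ h ∈ (C : Subgroup H), h • v = v) → C = A)
    (hB : ∀ h ∈ (B : Subgroup H), h • v = v)
    (hB' : ∀ C : Sylow q H, (∀ h ∈ (C : Subgroup H), h • v = v) → C = B) :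
    ∀ x ∈ (A : Subgroup H), ∀ y ∈ (B : Subgroup H), x * y = y * x := by
  intro x hx y hy
  have h1 := Sylow.smul_eq_iff_mem_normalizer.1 (smul_sylow_eq hB hB' (hA x hx))
  have h2 := Sylow.smul_eq_iff_mem_normalizer.1 (smul_sylow_eq hA hA' (hB y hy))
  have h3 : x * y * x⁻¹ ∈ (B : Subgroup H) := (Subgroup.mem_normalizer_iff.1 h1 y).1 hy
  have h4 : y * x⁻¹ * y⁻¹ ∈ (A : Subgroup H) := (Subgroup.mem_normalizer_iff.1 h2 x⁻¹).1 (Subgroup.inv_mem _ hx)
  have h5 : x * y * x⁻¹ * y⁻¹ ∈ (A : Subgroup H) := by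
    have := Subgroup.mul_mem _ hx h4
    rwa [← mul_assoc, ← mul_assoc] at this
  have h6 : x * y * x⁻¹ * y⁻¹ ∈ (B : Subgroup H) := Subgroup.mul_mem _ h3 (Subgroup.inv_mem _ hy)
  have h7 := (IsPGroup.disjoint_of_ne p q hpq _ _ A.2 B.2).le_bot ⟨h5, h6⟩
  rw [Subgroup.mem_bot, mul_inv_eq_one, mul_inv_eq_iff_eq_mul] at h7
  exact h7

end Main

section Sixtyfour

variable {H : Type u} [Group H] [Finite H] {V : Type v} [CommGroup V] [Finite V] [Nontrivial V]
  [MulDistribMulAction H V]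

/-- the possible primes when `|V| = 64` -/
theorem primes_64 (hV : ∀ v : V, v ^ 2 = 1) (hcard : Nat.card V = 2 ^ 6) {p : ℕ} [hp : Fact p.Prime]
    (hU : UniqueSylow p H V) (hnt : ∃ A : Sylow p H, ∃ h ∈ (A : Subgroup H), ∃ v : V, h • v ≠ v) :
    (p = 2 ∨ p = 5 ∨ p = 31) ∧ ∃ c, 1 ≤ c ∧ c ≤ 3 ∧ (∀ A : Sylow p H, Nat.card (fixV A.1 V) = 2 ^ c) := by
  have h2f : Fact (Nat.Prime 2) := ⟨Nat.prime_two⟩
  obtain ⟨c, hc1, hcn, hcA, hcc, hpH⟩ := data (ℓ := 2) hV hcard hU hnt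
  have h2 := card_sylow_modEq_one p H
  have hpos : 0 < Nat.card (Sylow p H) := Nat.card_pos
  have h3 : p ∣ Nat.card (Sylow p H) - 1 := (Nat.modEq_iff_dvd' hpos).1 h2.symm
  have hc : c = 1 ∨ c = 2 ∨ c = 3 ∨ c = 4 ∨ c = 5 := by omega
  have key : ∀ q, q.Prime → p ∣ q → p = q := fun q hq h => (Nat.prime_dvd_prime_iff_eq hp.out hq).1 h
  rcases hc with rfl | rfl | rfl | rfl | rfl
  · refine ⟨?_, 1, le_refl _, by norm_num, hcA⟩
    have h4 : Nat.card (Sylow p H) = 63 := by omega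
    rw [h4] at h3
    have h5 : p ∣ 2 * 31 := by norm_num at h3 ⊢; exact h3
    rcases hp.out.dvd_mul.1 h5 with h | h
    · exact Or.inl (key 2 (by norm_num) h)
    · exact Or.inr (Or.inr (key 31 (by norm_num) h))
  · refine ⟨?_, 2, by norm_num, by norm_num, hcA⟩
    have h4 : Nat.card (Sylow p H) = 21 := by omega
    rw [h4] at h3
    have h5 : p ∣ 2 * (2 * 5) := by norm_num at h3 ⊢; exact h3
    rcases hp.out.dvd_mul.1 h5 with h | h
    · exact Or.inl (key 2 (by norm_num) h)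
    rcases hp.out.dvd_mul.1 h with h | h
    · exact Or.inl (key 2 (by norm_num) h)
    · exact Or.inr (Or.inl (key 5 (by norm_num) h))
  · refine ⟨?_, 3, by norm_num, by norm_num, hcA⟩
    have h4 : Nat.card (Sylow p H) = 9 := by omega
    rw [h4] at h3
    have h5 : p ∣ 2 * (2 * 2) := by norm_num at h3 ⊢; exact h3
    rcases hp.out.dvd_mul.1 h5 with h | h
    · exact Or.inl (key 2 (by norm_num) h)
    rcases hp.out.dvd_mul.1 h with h | h
    · exact Or.inl (key 2 (by norm_num) h)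
    · exact Or.inl (key 2 (by norm_num) h)
  · exfalso; omega
  · exfalso; omega

theorem not_31 (hsol : Group.IsSolvable H) (hV : ∀ v : V, v ^ 2 = 1)
    (hf : ∀ h : H, (∀ v : V, h • v = v) → h = 1)
    (hirrH : ∀ W : Subgroup V, (∀ h : H, ∀ w ∈ W, h • w ∈ W) → W = ⊥ ∨ W = ⊤)
    (hcard : Nat.card V = 2 ^ 6) [hp : Fact (Nat.Prime 31)]
    (hU : UniqueSylow 31 H V) (hnt : ∃ A : Sylow 31 H, ∃ h ∈ (A : Subgroup H), ∃ v : V, h • v ≠ v) : False := by
  have h2f : Fact (Nat.Prime 2) := ⟨Nat.prime_two⟩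
  obtain ⟨c, hc1, hcn, hcA, hcc, hpH⟩ := data (ℓ := 2) hV hcard hU hnt
  obtain ⟨ζ, hζo⟩ := exists_prime_orderOf_dvd_card' 31 hpH
  have hζ : ζ ^ 31 = 1 := orderOf_dvd_iff_pow_eq_one.1 hζo.dvd
  have hζ1 : ζ ≠ 1 := by
    intro h
    rw [h, orderOf_one] at hζo
    exact hp.out.one_lt.ne hζo
  have hR := pCore_eq_bot hf hU
  obtain ⟨s, hs, g, hg, hgne⟩ := exists_not_central hsol hR ζ hζ hζ1
  have hbot : ∀ q, Cfsg.pCore q H = ⊥ → s ≠ q := by
    rintro q hq rfl
    rw [hq, Subgroup.mem_bot] at hg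
    apply hgne
    rw [hg]
    group
  have hsz := hbot 31 hR
  have hsℓ := hbot 2 (pCore_char_eq_bot hV hf hirrH)
  obtain ⟨h, -⟩ := cent_pgroup (ℓ := 2) hV hf hcard ζ hp.out hζ (by norm_num) hs hsz hsℓ (Cfsg.pCore s H)
    (Cfsg.Agent.Lib.Cores.pCore_isPGroup s)
    (fun g hg => (Cfsg.Agent.Lib.Cores.pCore_normal s).conj_mem g hg ζ) ⟨g, hg, hgne⟩
  exact hsℓ h

theorem case_five (hV : ∀ v : V, v ^ 2 = 1) (hf : ∀ h : H, (∀ v : V, h • v = v) → h = 1)
    (hcard : Nat.card V = 2 ^ 6) [hp : Fact (Nat.Prime 5)] [h2f : Fact (Nat.Prime 2)]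
    (hU : UniqueSylow 5 H V) (hnt : ∃ A : Sylow 5 H, ∃ h ∈ (A : Subgroup H), ∃ v : V, h • v ≠ v)
    (hU2 : UniqueSylow 2 H V) (hnt2 : ∃ A : Sylow 2 H, ∃ h ∈ (A : Subgroup H), ∃ v : V, h • v ≠ v) : False := by
  obtain ⟨-, -, -, -, -, h5H⟩ := data (ℓ := 2) hV hcard hU hnt
  obtain ⟨-, c, hc1, hc3, hc⟩ := primes_64 hV hcard hU2 hnt2
  obtain ⟨v, hv⟩ := exists_ne (1 : V)
  obtain ⟨A, -, hA, hA'⟩ := hU v hv
  obtain ⟨B, -, hB, hB'⟩ := hU2 v hv
  have hcomm := commute_of_unique (by norm_num) hA hA' hB hB'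
  obtain ⟨α', hα'⟩ := exists_prime_orderOf_dvd_card' 5 (A.dvd_card_of_dvd_card h5H)
  set α : H := (α' : H) with hα
  have hαA : α ∈ (A : Subgroup H) := α'.2
  have hαo : orderOf α = 5 := by rw [hα, Subgroup.orderOf_coe, hα']
  have hα1 : α ≠ 1 := by
    intro h
    rw [h, orderOf_one] at hαo
    norm_num at hαo
  have hα5 : α ^ 5 = 1 := orderOf_dvd_iff_pow_eq_one.1 hαo.dvd
  set F := fixV (Subgroup.zpowers α) V with hF
  have hmem : ∀ w : V, w ∈ F ↔ α • w = w := by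
    intro w
    constructor
    · intro hw
      exact hw α (Subgroup.mem_zpowers α)
    · rintro hw _ ⟨k, rfl⟩
      have h4 : α ∈ MulAction.stabilizer H w := hw
      exact Subgroup.zpow_mem _ h4 k
  -- `|C_V(α)| = 4`
  have hF4 : Nat.card F = 4 := by
    have h1 := card_mod α hα5 (⊤ : Subgroup V) (fun _ _ => Subgroup.mem_top _)
    rw [top_inf_eq, Subgroup.card_top, hcard] at h1
    obtain ⟨j, hj⟩ := exists_card_pow (ℓ := 2) hV F
    rw [← hF, hj] at h1
    have hjn : j ≤ 6 := by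
      have := Nat.le_of_dvd Nat.card_pos (Subgroup.card_subgroup_dvd_card F)
      rw [hj, hcard] at this
      exact (Nat.pow_le_pow_iff_right (by norm_num)).1 this
    rw [hj]
    interval_cases j
    · exact absurd h1 (by decide)
    · exact absurd h1 (by decide)
    · norm_num
    · exact absurd h1 (by decide)
    · exact absurd h1 (by decide)
    · exact absurd h1 (by decide)
    · exfalso
      apply hα1
      apply hf
      intro w
      have h5 : F = ⊤ := by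
        apply Subgroup.eq_top_of_card_eq
        rw [hj, hcard]
      rw [← hmem, h5]
      trivial
  -- `C_V(B) ≤ C_V(α)`
  have hBF : fixV (B : Subgroup H) V ≤ F := by
    have h1 := card_mod α hα5 (fixV (B : Subgroup H) V) (by
      intro u hu h hh
      rw [← mul_smul, ← hcomm α hαA h hh, mul_smul, hu h hh])
    obtain ⟨j, hj⟩ := exists_card_pow (ℓ := 2) hV (fixV (B : Subgroup H) V ⊓ F)
    rw [← hF, hc B, hj] at h1
    have hjn : j ≤ c := by
      have := Nat.le_of_dvd Nat.card_pos (Subgroup.card_dvd_of_le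
        (inf_le_left : fixV (B : Subgroup H) V ⊓ F ≤ fixV (B : Subgroup H) V))
      rw [hj, hc B] at this
      exact (Nat.pow_le_pow_iff_right (by norm_num)).1 this
    have hjc : j = c := by
      have hc' : c = 1 ∨ c = 2 ∨ c = 3 := by omega
      rcases hc' with rfl | rfl | rfl
      · interval_cases j
        · exact absurd h1 (by decide)
        · rfl
      · interval_cases j
        · exact absurd h1 (by decide)
        · exact absurd h1 (by decide)
        · rfl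
      · interval_cases j
        · exact absurd h1 (by decide)
        · exact absurd h1 (by decide)
        · exact absurd h1 (by decide)
        · rfl
    have h2 : fixV (B : Subgroup H) V ⊓ F = fixV (B : Subgroup H) V := by
      apply Subgroup.eq_of_le_of_card_ge inf_le_left
      rw [hj, hc B, hjc]
    rw [← h2]
    exact inf_le_right
  -- the commutator space
  let δ : V →* V := { toFun := fun w => (α • w) * w⁻¹
                      map_one' := by rw [smul_one, one_mul, inv_one]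
                      map_mul' := by
                        intro x y
                        rw [smul_mul', mul_inv]
                        exact mul_mul_mul_comm _ _ _ _ }
  have hδ : ∀ w, δ w = (α • w) * w⁻¹ := fun w => rfl
  have hker : δ.ker = F := by
    ext w
    rw [MonoidHom.mem_ker, hmem, hδ, mul_inv_eq_one]
  have hR : Nat.card δ.range = 16 := by
    have h1 := Subgroup.card_mul_index δ.ker
    rw [Subgroup.index_ker, hker, hF4, hcard] at h1
    omega
  have hRF : ∀ w ∈ δ.range, w ∈ F → w = 1 := by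
    rintro _ ⟨w, rfl⟩ hw
    have e1 : ∀ k : ℕ, α ^ k • δ w = δ w := by
      intro k
      exact hw _ (Subgroup.pow_mem _ (Subgroup.mem_zpowers α) k)
    have e2 : ∀ k : ℕ, α ^ k • w = w * (δ w) ^ k := by
      intro k
      induction k with
      | zero => simp
      | succ k ih =>
        have e3 : α • w = w * δ w := by
          rw [hδ, mul_comm (α • w), mul_inv_cancel_left]
        rw [pow_succ, mul_smul, e3, smul_mul', ih, e1, pow_succ, mul_assoc]
    have e4 := e2 5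
    rw [hα5, one_smul, eq_comm, mul_eq_left] at e4
    have e5 := pow_gcd_eq_one.2 ⟨e4, hV (δ w)⟩
    have e6 : Nat.gcd 5 2 = 1 := by norm_num
    rwa [e6, pow_one] at e5
  -- `B` acts on the commutator space
  have hinv : ∀ h ∈ (B : Subgroup H), ∀ w ∈ δ.range, h • w ∈ δ.range := by
    rintro h hh _ ⟨w, rfl⟩
    refine ⟨h • w, ?_⟩
    rw [hδ, hδ, ← mul_smul, hcomm α hαA h hh, mul_smul, smul_mul', smul_inv']
  let _ : MulAction (B : Subgroup H) δ.range :=
    { smul := fun h w => ⟨(h : H) • (w : V), hinv h h.2 w w.2⟩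
      one_smul := fun w => Subtype.ext (one_smul H (w : V))
      mul_smul := fun x y w => Subtype.ext (mul_smul (x : H) (y : H) (w : V)) }
  have hone : (1 : δ.range) ∈ MulAction.fixedPoints (B : Subgroup H) δ.range := by
    intro h
    exact Subtype.ext (smul_one (h : H))
  obtain ⟨w, hw, hw1⟩ := B.2.exists_fixed_point_of_prime_dvd_card_of_fixed_point δ.range (by rw [hR]; norm_num) hone
  apply hw1
  have h1 : (w : V) ∈ fixV (B : Subgroup H) V := by
    intro h hh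
    exact congrArg Subtype.val (hw ⟨h, hh⟩)
  exact (Subtype.ext (hRF w w.2 (hBF h1))).symm

end Sixtyfour

/-- the faithful case -/
theorem faithful {H : Type u} [Group H] [Finite H] {V : Type v} [CommGroup V] [Finite V] [Nontrivial V]
    [MulDistribMulAction H V] {a b ℓ : ℕ} [ha : Fact a.Prime] [hb : Fact b.Prime] [hℓ : Fact ℓ.Prime]
    (hsol : Group.IsSolvable H) (hab : a ≠ b) (hV : ∀ v : V, v ^ ℓ = 1)
    (hirrH : ∀ W : Subgroup V, (∀ h : H, ∀ w ∈ W, h • w ∈ W) → W = ⊥ ∨ W = ⊤)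
    (hUa : UniqueSylow a H V) (hUb : UniqueSylow b H V)
    (hna : ∃ A : Sylow a H, ∃ h ∈ (A : Subgroup H), ∃ v : V, h • v ≠ v)
    (hnb : ∃ B : Sylow b H, ∃ h ∈ (B : Subgroup H), ∃ v : V, h • v ≠ v)
    (hf : ∀ h : H, (∀ v : V, h • v = v) → h = 1) :
    ∃ χ : Cfsg.IrrCharacter H, a * b ∣ Cfsg.charDegree (χ : H → ℂ) := by
  obtain ⟨n, hcard⟩ : ∃ n, Nat.card V = ℓ ^ n := by
    have h1 : IsPGroup ℓ V := fun v => ⟨1, by rw [pow_one]; exact hV v⟩
    exact IsPGroup.iff_card.1 h1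
  by_cases h2 : n = 2
  · exfalso
    subst h2
    exact hab ((case_two hV hcard hUa hna).trans (case_two hV hcard hUb hnb).symm)
  by_cases h6 : ℓ = 2 ∧ n = 6
  · exfalso
    obtain ⟨rfl, rfl⟩ := h6
    obtain ⟨h3, -⟩ := primes_64 hV hcard hUa hna
    obtain ⟨h4, -⟩ := primes_64 hV hcard hUb hnb
    rcases h3 with rfl | rfl | rfl
    · rcases h4 with rfl | rfl | rfl
      · exact hab rfl
      · exact case_five hV hf hcard hUb hnb hUa hna
      · exact not_31 hsol hV hf hirrH hcard hUb hnb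
    · rcases h4 with rfl | rfl | rfl
      · exact case_five hV hf hcard hUa hna hUb hnb
      · exact hab rfl
      · exact not_31 hsol hV hf hirrH hcard hUb hnb
    · exact not_31 hsol hV hf hirrH hcard hUa hna
  exact case_generic hsol hV hf hirrH hcard hab hUa hUb hna hnb h2 h6

/-- passing to a quotient acting compatibly -/
theorem uniqueSylow_map {H : Type u} [Group H] [Finite H] {Q : Type u} [Group Q] {V : Type v} [CommGroup V]
    [MulDistribMulAction H V] [MulDistribMulAction Q V] (φ : H →* Q) (hφ : Function.Surjective φ)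
    (hc : ∀ (h : H) (v : V), φ h • v = h • v) {p : ℕ} [hp : Fact p.Prime] (hU : UniqueSylow p H V) :
    UniqueSylow p Q V := by
  intro v hv
  obtain ⟨A, hA1, hA2, hA3⟩ := hU v hv
  refine ⟨A.mapSurjective hφ, ?_, ?_, ?_⟩
  · constructor
    constructor
    rintro ⟨_, x, hx, rfl⟩ ⟨_, y, hy, rfl⟩
    apply Subtype.ext
    show φ x * φ y = φ y * φ x
    rw [← map_mul, ← map_mul]
    exact congrArg φ (congrArg Subtype.val (hA1.is_comm.comm ⟨x, hx⟩ ⟨y, hy⟩))
  · rintro _ ⟨x, hx, rfl⟩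
    rw [hc]
    exact hA2 x hx
  · intro B hB
    obtain ⟨C, rfl⟩ := Sylow.mapSurjective_surjective hφ p B
    rw [hA3 C]
    intro h hh
    rw [← hc]
    exact hB _ ⟨h, hh, rfl⟩

end Cfsg.Agent.H273.PalfyKP

namespace Cfsg.Agent.H273.Palfy

universe u v

open Cfsg.Agent.H273.PalfyKP

/-- **The linear group half of Pálfy's three primes theorem.** -/
theorem kp : KP.{u, v} := by
  intro H _ _ V _ _ _ _ a b ℓ _ _ _ hsol hab hV hirrH hUa hUb hna hnb
  let f : H →* MulAut V := MulDistribMulAction.toMulAut H V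
  let φ : H →* H ⧸ f.ker := QuotientGroup.mk' f.ker
  have hφ : Function.Surjective φ := QuotientGroup.mk'_surjective _
  let _ : MulDistribMulAction (H ⧸ f.ker) V := MulDistribMulAction.compHom V (QuotientGroup.kerLift f)
  have hc : ∀ (h : H) (v : V), φ h • v = h • v := fun h v => rfl
  have hnt : ∀ p, Fact p.Prime → (∃ A : Sylow p H, ∃ h ∈ (A : Subgroup H), ∃ v : V, h • v ≠ v) →
      ∃ A : Sylow p (H ⧸ f.ker), ∃ h ∈ (A : Subgroup (H ⧸ f.ker)), ∃ v : V, h • v ≠ v := by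
    rintro p hp ⟨A, h, hh, v, hv⟩
    exact ⟨A.mapSurjective hφ, φ h, ⟨h, hh, rfl⟩, v, hv⟩
  obtain ⟨χ, hχ⟩ := faithful (H := H ⧸ f.ker) (V := V) (a := a) (b := b) (ℓ := ℓ) inferInstance hab hV
    (fun W hW => hirrH W fun h w hw => hW (φ h) w hw) (uniqueSylow_map φ hφ hc hUa) (uniqueSylow_map φ hφ hc hUb)
    (hnt a inferInstance hna) (hnt b inferInstance hnb) (by
      intro x hx
      obtain ⟨h, rfl⟩ := hφ x
      rw [QuotientGroup.mk'_apply, QuotientGroup.eq_one_iff, MonoidHom.mem_ker]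
      apply MulEquiv.ext
      intro v
      exact hx v)
  refine ⟨⟨(χ : H ⧸ f.ker → ℂ) ∘ φ, Cfsg.Agent.Characters.Core.isIrr_comp φ hφ χ.2⟩, ?_⟩
  have h1 : Cfsg.charDegree ((χ : H ⧸ f.ker → ℂ) ∘ φ) = Cfsg.charDegree (χ : H ⧸ f.ker → ℂ) := by
    unfold Cfsg.charDegree
    rw [Function.comp_apply, map_one]
  show a * b ∣ Cfsg.charDegree ((χ : H ⧸ f.ker → ℂ) ∘ φ)
  rw [h1]
  exact hχ

end Cfsg.Agent.H273.Palfy
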