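import Mathlib
import Cfsg.Agent.Blocks.SylowIn

/-!
# Rigidity of groups with a "rank one" set of Sylow `p`-subgroups

* `RankOneSyl p K` : `K` is perfect, the elements normalising all Sylow `p`-subgroups are central, each Sylow subgroup `U`
  is transitive on the other ones, and some element normalises exactly `U` and one other Sylow subgroup;
* `RankOneSyl.rigid` : an automorphism which is trivial on the normaliser of a Sylow `p`-subgroup is trivial;
* `RankOneSyl.map` : quotients by central `p'`-subgroups;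
* `VecData` : a group acting on a vector space (points = lines spanned by the vectors of a set `I`) with this property.
-/

set_option autoImplicit false
set_option linter.unusedSectionVars false

open Subgroup
open scoped Pointwise commutatorElement

namespace Cfsg.Agent.H273

/-- A rank one set of Sylow subgroups. -/
structure RankOneSyl (p : ℕ) (K : Type*) [Group K] : Prop where
  perf : ⁅(⊤ : Subgroup K), (⊤ : Subgroup K)⁆ = (⊤ : Subgroup K)
  ker : ∀ k : K, (∀ V : Sylow p K, k ∈ normalizer (V : Set K)) → k ∈ center K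
  tor : ∀ U : Sylow p K, ∃ (U₀ : Sylow p K) (t : K), U₀ ≠ U ∧ t ∈ normalizer (U : Set K) ∧
    t ∈ normalizer (U₀ : Set K) ∧ ∀ V : Sylow p K, t ∈ normalizer (V : Set K) → V = U ∨ V = U₀
  trans : ∀ U V W : Sylow p K, V ≠ U → W ≠ U → ∃ u ∈ (U : Subgroup K), u • V = W

namespace RankOneSyl

section Rigid

variable {K : Type*} [Group K] {p : ℕ}

theorem smul_smul_eq (γ : MulAut K) (k : K) (V : Sylow p K) : γ • (k • V) = γ k • (γ • V) := by
  rw [Sylow.smul_def, Sylow.smul_def, ← mul_smul, ← mul_smul]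
  congr 1
  ext x
  show γ (k * x * k⁻¹) = γ k * γ x * (γ k)⁻¹
  rw [map_mul, map_mul, map_inv]

/-- **Rigidity.** -/
theorem rigid (h : RankOneSyl p K) (γ : MulAut K) (U : Sylow p K)
    (hγ : ∀ b ∈ normalizer (U : Set K), γ b = b) : γ = 1 := by
  have hUn : ∀ u ∈ (U : Subgroup K), u ∈ normalizer (U : Set K) := fun u hu => le_normalizer hu
  have hU : γ • U = U := by
    apply Sylow.ext
    rw [Sylow.pointwise_smul_def]
    ext x
    constructor
    · rintro ⟨u, hu, rfl⟩
      show γ u ∈ (U : Subgroup K)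
      rw [hγ u (hUn u hu)]; exact hu
    · intro hx
      exact ⟨x, hx, hγ x (hUn x hx)⟩
  obtain ⟨U₀, t, hne, htU, htU₀, ht⟩ := h.tor U
  have hγt : γ t = t := hγ t htU
  have hU₀ : γ • U₀ = U₀ := by
    have h1 : t • (γ • U₀) = γ • U₀ := by
      conv_lhs => rw [← hγt]
      rw [← smul_smul_eq, Sylow.smul_eq_iff_mem_normalizer.2 htU₀]
    rcases ht _ (Sylow.smul_eq_iff_mem_normalizer.1 h1) with h2 | h2
    · exfalso
      apply hne
      rw [← hU] at h2
      exact MulAction.injective γ h2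
    · exact h2
  have hall : ∀ V : Sylow p K, γ • V = V := by
    intro V
    by_cases hV : V = U
    · rw [hV, hU]
    · obtain ⟨u, hu, rfl⟩ := h.trans U U₀ V hne hV
      rw [smul_smul_eq, hγ u (hUn u hu), hU₀]
  have hc : ∀ k : K, k⁻¹ * γ k ∈ center K := by
    intro k
    apply h.ker
    intro V
    rw [← Sylow.smul_eq_iff_mem_normalizer, mul_smul]
    conv_lhs => rw [← hall V]
    rw [← smul_smul_eq, hall, inv_smul_smul]
  -- `γ` fixes the commutators
  let R : Subgroup K :=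
    { carrier := {k | γ k = k}
      one_mem' := map_one γ
      mul_mem' := fun {a b} ha hb => by
        show γ (a * b) = a * b
        rw [map_mul]; exact congrArg₂ _ ha hb
      inv_mem' := fun {a} ha => by
        show γ a⁻¹ = a⁻¹
        rw [map_inv]; exact congrArg _ ha }
  have hR : (⊤ : Subgroup K) ≤ R := by
    rw [← h.perf, commutator_le]
    intro a _ b _
    show γ ⁅a, b⁆ = ⁅a, b⁆
    obtain ⟨z, hz⟩ : ∃ z, z = a⁻¹ * γ a := ⟨_, rfl⟩
    obtain ⟨w, hw⟩ : ∃ w, w = b⁻¹ * γ b := ⟨_, rfl⟩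
    have hzc : z ∈ center K := hz ▸ hc a
    have hwc : w ∈ center K := hw ▸ hc b
    have ha : γ a = a * z := by rw [hz]; group
    have hb : γ b = b * w := by rw [hw]; group
    rw [map_commutatorElement, ha, hb, commutatorElement_def, commutatorElement_def]
    have e1 := mem_center_iff.1 hzc
    have e2 := mem_center_iff.1 hwc
    have e3 := mem_center_iff.1 (inv_mem hzc)
    have e4 := mem_center_iff.1 (inv_mem hwc)
    rw [_root_.mul_inv_rev, _root_.mul_inv_rev]
    calc a * z * (b * w) * (z⁻¹ * a⁻¹) * (w⁻¹ * b⁻¹) = a * (z * (b * w * z⁻¹)) * a⁻¹ * (w⁻¹ * b⁻¹) := by group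
      _ = a * (b * w * z⁻¹ * z) * a⁻¹ * (w⁻¹ * b⁻¹) := by rw [← e1 (b * w * z⁻¹)]
      _ = a * b * (w * (a⁻¹ * w⁻¹)) * b⁻¹ := by group
      _ = a * b * (a⁻¹ * w⁻¹ * w) * b⁻¹ := by rw [← e2 (a⁻¹ * w⁻¹)]
      _ = a * b * a⁻¹ * b⁻¹ := by group
  ext k
  exact hR (mem_top k)

end Rigid

section Map

variable {X K : Type*} [Group X] [Finite X] [Group K] {p : ℕ} [hpf : Fact p.Prime]

theorem map_le_imp {f : X →* K} (hker : f.ker ≤ center X) (hp : ¬ p ∣ Nat.card f.ker) {A B : Subgroup X}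
    (hA : IsPGroup p A) (hB : IsPGroup p B) (h : A.map f ≤ B.map f) : A ≤ B := by
  intro x hx
  obtain ⟨y, hy, hyx⟩ := h (mem_map_of_mem f hx)
  have hz : y⁻¹ * x ∈ f.ker := by
    rw [MonoidHom.mem_ker, map_mul, map_inv, hyx, inv_mul_cancel]
  have hzc := mem_center_iff.1 (hker hz)
  obtain ⟨m, hm⟩ := hA ⟨x, hx⟩
  obtain ⟨n, hn⟩ := hB ⟨y, hy⟩
  have hm' : x ^ p ^ m = 1 := congrArg Subtype.val hm
  have hn' : y ^ p ^ n = 1 := congrArg Subtype.val hn
  have hxk : x ^ p ^ (m + n) = 1 := by rw [pow_add, pow_mul, hm', one_pow]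
  have hyk : y ^ p ^ (m + n) = 1 := by rw [pow_add, mul_comm, pow_mul, hn', one_pow]
  have hcomm : Commute y (y⁻¹ * x) := hzc y
  have hxe : x = y * (y⁻¹ * x) := by group
  have h1 : (y⁻¹ * x) ^ p ^ (m + n) = 1 := by
    have h2 := hcomm.mul_pow (p ^ (m + n))
    rw [← hxe, hxk, hyk, one_mul] at h2
    exact h2.symm
  have h2 : y⁻¹ * x = 1 := by
    by_contra hne
    apply hp
    have h3 : orderOf (⟨y⁻¹ * x, hz⟩ : f.ker) ∣ p ^ (m + n) := by
      rw [orderOf_dvd_iff_pow_eq_one]; exact Subtype.ext h1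
    obtain ⟨k, -, hk⟩ := (Nat.dvd_prime_pow hpf.out).1 h3
    have hk0 : k ≠ 0 := by
      rintro rfl
      rw [pow_zero, orderOf_eq_one_iff] at hk
      exact hne (congrArg Subtype.val hk)
    refine Dvd.dvd.trans ?_ (orderOf_dvd_natCard (⟨y⁻¹ * x, hz⟩ : f.ker))
    rw [hk]; exact dvd_pow_self p hk0
  have h3 : x = y := by rw [inv_mul_eq_one] at h2; exact h2.symm
  rw [h3]; exact hy

/-- Quotients by central `p'`-subgroups. -/
theorem map (h : RankOneSyl p X) (f : X →* K) (hf : Function.Surjective f) (hker : f.ker ≤ center X)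
    (hp : ¬ p ∣ Nat.card f.ker) : RankOneSyl p K := by
  have hinj : ∀ P Q : Sylow p X, P.mapSurjective hf = Q.mapSurjective hf → P = Q := by
    intro P Q hPQ
    have h1 : (P : Subgroup X).map f = (Q : Subgroup X).map f := congrArg (fun P : Sylow p K => (P : Subgroup K)) hPQ
    exact Sylow.ext (le_antisymm (map_le_imp hker hp P.isPGroup' Q.isPGroup' h1.le)
      (map_le_imp hker hp Q.isPGroup' P.isPGroup' h1.ge))
  have hsmul : ∀ (x : X) (P : Sylow p X), (x • P).mapSurjective hf = f x • P.mapSurjective hf := by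
    intro x P
    apply Sylow.ext
    rw [Sylow.coe_mapSurjective, Sylow.coe_subgroup_smul, Sylow.coe_subgroup_smul, Sylow.coe_mapSurjective]
    ext y
    constructor
    · rintro ⟨_, ⟨z, hz, rfl⟩, rfl⟩
      refine ⟨f z, ⟨z, hz, rfl⟩, ?_⟩
      show f x * f z * (f x)⁻¹ = f (x * z * x⁻¹)
      rw [map_mul, map_mul, map_inv]
    · rintro ⟨_, ⟨z, hz, rfl⟩, rfl⟩
      refine ⟨x * z * x⁻¹, ⟨z, hz, rfl⟩, ?_⟩
      show f (x * z * x⁻¹) = f x * f z * (f x)⁻¹
      rw [map_mul, map_mul, map_inv]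
  have hnorm : ∀ (x : X) (P : Sylow p X), f x ∈ normalizer (P.mapSurjective hf : Set K) ↔
      x ∈ normalizer (P : Set X) := by
    intro x P
    rw [← Sylow.smul_eq_iff_mem_normalizer, ← Sylow.smul_eq_iff_mem_normalizer, ← hsmul]
    exact ⟨fun h => hinj _ _ h, fun h => by rw [h]⟩
  have hsurj := Sylow.mapSurjective_surjective hf p
  refine ⟨?_, ?_, ?_, ?_⟩
  · have h1 := congrArg (Subgroup.map f) h.perf
    rw [Subgroup.map_commutator, Subgroup.map_top_of_surjective f hf] at h1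
    exact h1
  · intro k hk
    obtain ⟨x, rfl⟩ := hf k
    have h1 : x ∈ center X := h.ker x fun P => (hnorm x P).1 (hk _)
    rw [mem_center_iff] at h1 ⊢
    intro y
    obtain ⟨y, rfl⟩ := hf y
    rw [← map_mul, ← map_mul, h1]
  · intro U
    obtain ⟨P, rfl⟩ := hsurj U
    obtain ⟨P₀, t, h1, h2, h3, h4⟩ := h.tor P
    refine ⟨P₀.mapSurjective hf, f t, fun h => h1 (hinj _ _ h), (hnorm _ _).2 h2, (hnorm _ _).2 h3, ?_⟩
    intro V hV
    obtain ⟨Q, rfl⟩ := hsurj V
    rcases h4 Q ((hnorm _ _).1 hV) with h | h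
    · exact Or.inl (by rw [h])
    · exact Or.inr (by rw [h])
  · intro U V W hV hW
    obtain ⟨P, rfl⟩ := hsurj U
    obtain ⟨Q, rfl⟩ := hsurj V
    obtain ⟨R, rfl⟩ := hsurj W
    obtain ⟨u, hu, h1⟩ := h.trans P Q R (fun h => hV (by rw [h])) (fun h => hW (by rw [h]))
    refine ⟨f u, mem_map_of_mem f hu, ?_⟩
    rw [← hsmul, h1]

theorem of_equiv (h : RankOneSyl p X) (e : X ≃* K) : RankOneSyl p K := by
  refine h.map e.toMonoidHom e.surjective ?_ ?_
  · rw [(MonoidHom.ker_eq_bot_iff e.toMonoidHom).2 e.injective]; exact bot_le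
  · rw [(MonoidHom.ker_eq_bot_iff e.toMonoidHom).2 e.injective, Subgroup.card_bot]
    exact hpf.out.one_lt.ne' ∘ Nat.dvd_one.1

end Map

end RankOneSyl


/-- A group acting on a vector space of characteristic `p` like a group of Lie rank one: `I` is the set of vectors spanning the
points. -/
structure VecData (p : ℕ) (F : Type*) {X V : Type*} [Field F] [Group X] [AddCommGroup V] [Module F V]
    (act : X → V → V) (I : Set V) : Prop where
  one : ∀ v, act 1 v = v
  mul : ∀ g h v, act (g * h) v = act g (act h v)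
  smul : ∀ g (c : F) v, act g (c • v) = c • act g v
  char : ∀ (a : F) (k : ℕ), a ^ p ^ k = 1 → a = 1
  ne0 : ∀ u ∈ I, u ≠ 0
  nonempty : I.Nonempty
  actI : ∀ g, ∀ u ∈ I, act g u ∈ I
  pgrp : ∀ u ∈ I, ∀ g, act g u = u → ∃ k : ℕ, g ^ p ^ k = 1
  move : ∀ u ∈ I, ∀ v ∈ I, (∀ g, act g u = u → act g v = v) → ∃ c : F, v = c • u
  trans : ∀ u ∈ I, ∀ v ∈ I, ∀ w ∈ I, (¬ ∃ c : F, v = c • u) → (¬ ∃ c : F, w = c • u) →
    ∃ g, act g u = u ∧ ∃ c : F, c ≠ 0 ∧ act g v = c • w
  tor : ∀ u ∈ I, ∃ v ∈ I, (¬ ∃ c : F, v = c • u) ∧ ∃ t, (∃ c : F, act t u = c • u) ∧ (∃ c : F, act t v = c • v) ∧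
    ∀ w ∈ I, (∃ c : F, act t w = c • w) → (∃ c : F, w = c • u) ∨ (∃ c : F, w = c • v)
  ker : ∀ g, (∀ u ∈ I, ∃ c : F, act g u = c • u) → g ∈ center X
  faith : ∀ g, (∀ u ∈ I, act g u = u) → g = 1
  perf : ⁅(⊤ : Subgroup X), (⊤ : Subgroup X)⁆ = (⊤ : Subgroup X)

namespace VecData

variable {p : ℕ} [hpf : Fact p.Prime] {F X V : Type*} [Field F] [Group X] [Finite X] [AddCommGroup V] [Module F V]
  {act : X → V → V} {I : Set V}

/-- The stabiliser of a vector. -/
def st (h : VecData p F act I) (u : V) : Subgroup X where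
  carrier := {g | act g u = u}
  one_mem' := h.one u
  mul_mem' := fun {a b} ha hb => by
    show act (a * b) u = u
    rw [h.mul, show act b u = u from hb]; exact ha
  inv_mem' := fun {a} ha => by
    show act a⁻¹ u = u
    have h1 : act a⁻¹ (act a u) = u := by rw [← h.mul, inv_mul_cancel, h.one]
    rwa [show act a u = u from ha] at h1

variable (h : VecData p F act I)
include h

theorem mem_st {u : V} {g : X} : g ∈ h.st u ↔ act g u = u := Iff.rfl

theorem inv_act (g : X) (u : V) : act g⁻¹ (act g u) = u := by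
  rw [← h.mul, inv_mul_cancel, h.one]

theorem act_inv (g : X) (u : V) : act g (act g⁻¹ u) = u := by
  rw [← h.mul, mul_inv_cancel, h.one]

theorem mem_st_act {u : V} {g x : X} : x ∈ h.st (act g u) ↔ g⁻¹ * x * g ∈ h.st u := by
  rw [mem_st, mem_st, h.mul, h.mul]
  constructor
  · intro h1
    rw [h1, h.inv_act]
  · intro h1
    have h2 := congrArg (act g) h1
    rwa [h.act_inv] at h2

theorem st_smul {u : V} {c : F} (hc : c ≠ 0) : h.st (c • u) = h.st u := by
  ext x
  rw [mem_st, mem_st, h.smul]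
  exact ⟨fun h1 => smul_right_injective V hc h1, fun h1 => by rw [h1]⟩

theorem smul_eq_st (g : X) (u : V) : (MulAut.conj g) • h.st u = h.st (act g u) := by
  ext x
  rw [mem_st_act]
  constructor
  · rintro ⟨y, hy, rfl⟩
    have h2 : g⁻¹ * (g * y * g⁻¹) * g = y := by group
    show g⁻¹ * (g * y * g⁻¹) * g ∈ h.st u
    rwa [h2]
  · intro hx
    refine ⟨_, hx, ?_⟩
    show g * (g⁻¹ * x * g) * g⁻¹ = x
    group

theorem st_eq_iff {u v : V} (hu : u ∈ I) (hv : v ∈ I) : h.st v = h.st u ↔ ∃ c : F, v = c • u := by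
  constructor
  · intro h1
    exact h.move u hu v hv fun g hg => by
      have : g ∈ h.st v := by rw [h1]; exact hg
      exact this
  · rintro ⟨c, rfl⟩
    refine h.st_smul fun hc => ?_
    apply h.ne0 _ hv
    rw [hc, zero_smul]

theorem mem_normalizer_st {u : V} (hu : u ∈ I) (g : X) :
    g ∈ normalizer (h.st u : Set X) ↔ ∃ c : F, act g u = c • u := by
  rw [← h.st_eq_iff hu (h.actI g u hu), ← h.smul_eq_st, mem_normalizer_iff_map_conj_eq]
  rfl

theorem st_isPGroup {u : V} (hu : u ∈ I) : IsPGroup p (h.st u) := by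
  intro g
  obtain ⟨k, hk⟩ := h.pgrp u hu g g.2
  exact ⟨k, Subtype.ext hk⟩

theorem act_pow {g : X} {u : V} {c : F} (hc : act g u = c • u) (n : ℕ) : act (g ^ n) u = c ^ n • u := by
  induction n with
  | zero => rw [pow_zero, pow_zero, h.one, one_smul]
  | succ n ih => rw [pow_succ, h.mul, hc, h.smul, ih, smul_smul, pow_succ, mul_comm]

/-- A `p`-element normalising the stabiliser of `u` is in it. -/
theorem mem_st_of_pow {u : V} (hu : u ∈ I) {g : X} {k : ℕ} (hg : g ^ p ^ k = 1)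
    (hn : g ∈ normalizer (h.st u : Set X)) : g ∈ h.st u := by
  obtain ⟨c, hc⟩ := (h.mem_normalizer_st hu g).1 hn
  have h1 := h.act_pow hc (p ^ k)
  rw [hg, h.one] at h1
  have h2 : c ^ p ^ k = 1 := by
    have h3 : (c ^ p ^ k - 1) • u = 0 := by rw [sub_smul, one_smul, ← h1, sub_self]
    rcases smul_eq_zero.1 h3 with h4 | h4
    · exact sub_eq_zero.1 h4
    · exact absurd h4 (h.ne0 u hu)
  rw [mem_st, hc, h.char c k h2, one_smul]

theorem exists_sylow {u : V} (hu : u ∈ I) : ∃ P : Sylow p X, (P : Subgroup X) = h.st u := by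
  obtain ⟨P, hP⟩ := (h.st_isPGroup hu).exists_le_sylow
  refine ⟨P, Blocks.SylowIn.eq_of_normalizer_inf_le P.isPGroup' hP ?_⟩
  intro g hg
  obtain ⟨k, hk⟩ := P.isPGroup' ⟨g, hg.2⟩
  exact h.mem_st_of_pow hu (congrArg Subtype.val hk) hg.1

theorem exists_vec (P : Sylow p X) : ∃ u ∈ I, (P : Subgroup X) = h.st u := by
  obtain ⟨u, hu⟩ := h.nonempty
  obtain ⟨Q, hQ⟩ := h.exists_sylow hu
  obtain ⟨g, rfl⟩ := MulAction.exists_smul_eq X Q P
  exact ⟨_, h.actI g u hu, by rw [Sylow.coe_subgroup_smul, hQ, h.smul_eq_st]⟩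

theorem rankOneSyl : RankOneSyl p X := by
  refine ⟨h.perf, ?_, ?_, ?_⟩
  · intro k hk
    apply h.ker
    intro u hu
    obtain ⟨P, hP⟩ := h.exists_sylow hu
    have h1 := hk P
    rw [← h.mem_normalizer_st hu, ← hP]
    exact h1
  · intro U
    obtain ⟨u, hu, hU⟩ := h.exists_vec U
    obtain ⟨v, hv, hvu, t, htu, htv, ht⟩ := h.tor u hu
    obtain ⟨U₀, hU₀⟩ := h.exists_sylow hv
    have hn : ∀ (P : Sylow p X) (w : V), w ∈ I → (P : Subgroup X) = h.st w → ∀ g : X,
        g ∈ normalizer (P : Set X) ↔ ∃ c : F, act g w = c • w := by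
      intro P w hw hP g
      rw [← h.mem_normalizer_st hw, ← hP]
      rfl
    refine ⟨U₀, t, ?_, (hn U u hu hU t).2 htu, (hn U₀ v hv hU₀ t).2 htv, ?_⟩
    · intro h1
      apply hvu
      rw [← h.st_eq_iff hu hv, ← hU₀, ← hU, h1]
    · intro W hW
      obtain ⟨w, hw, hWw⟩ := h.exists_vec W
      rcases ht w hw ((hn W w hw hWw t).1 hW) with h1 | h1
      · left
        apply Sylow.ext
        rw [hWw, hU, h.st_eq_iff hu hw]; exact h1
      · right
        apply Sylow.ext
        rw [hWw, hU₀, h.st_eq_iff hv hw]; exact h1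
  · intro U V W hV hW
    obtain ⟨u, hu, hU⟩ := h.exists_vec U
    obtain ⟨v, hv, hVv⟩ := h.exists_vec V
    obtain ⟨w, hw, hWw⟩ := h.exists_vec W
    obtain ⟨g, hg, c, hc, hgc⟩ := h.trans u hu v hv w hw
      (fun h1 => hV (Sylow.ext (by rw [hVv, hU, h.st_eq_iff hu hv]; exact h1)))
      (fun h1 => hW (Sylow.ext (by rw [hWw, hU, h.st_eq_iff hu hw]; exact h1)))
    refine ⟨g, by rw [hU]; exact hg, ?_⟩
    apply Sylow.ext
    rw [Sylow.coe_subgroup_smul, hVv, h.smul_eq_st, hWw, hgc, h.st_smul hc]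

/-- The centre is a `p'`-group. -/
theorem not_dvd_center : ¬ p ∣ Nat.card (center X) := by
  intro hd
  obtain ⟨z, hz⟩ := exists_prime_orderOf_dvd_card' p hd
  have h1 : (z : X) ^ p ^ 1 = 1 := by
    have h2 : z ^ p = 1 := by rw [← hz]; exact pow_orderOf_eq_one z
    rw [pow_one]; exact congrArg Subtype.val h2
  have h2 : (z : X) = 1 := by
    apply h.faith
    intro u hu
    refine h.mem_st_of_pow hu h1 ?_
    exact (center_le_normalizer (h.st u : Set X)) z.2
  have h3 : z = 1 := Subtype.ext h2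
  rw [h3, orderOf_one] at hz
  exact hpf.out.one_lt.ne hz

/-- The quotient by the centre. -/
theorem rankOneSyl_quot : RankOneSyl p (X ⧸ center X) := by
  refine h.rankOneSyl.map (QuotientGroup.mk' (center X)) (QuotientGroup.mk'_surjective _) ?_ ?_
  · rw [QuotientGroup.ker_mk']
  · rw [QuotientGroup.ker_mk']; exact h.not_dvd_center

end VecData

end Cfsg.Agent.H273
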