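import Cfsg.Agent.H273.RankOneSyl
import Cfsg.Agent.LieClassical.HermPerfect
import Cfsg.Agent.LieClassical.HermSimple

/-!
# `SU₃(q)` as a group of Lie rank one

`VecData p F act I` for `SU 3 F (p ^ a)` acting on the isotropic vectors, `p ≥ 5`.
-/

set_option autoImplicit false
set_option linter.unusedSectionVars false

namespace Cfsg.Agent.H273.VecSU3

open Cfsg Cfsg.Agent.LieClassical.HermBasic Cfsg.Agent.LieClassical.HermSiegel
  Cfsg.Agent.LieClassical.HermGen Cfsg.Agent.LieClassical.HermSimple Matrix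

variable {F : Type*} [Field F] [Fintype F] {q : ℕ}

theorem minors {x0 x1 x2 y0 y1 y2 X0 X1 X2 Y0 Y1 Y2 : F} (a : x0 * X0 + x1 * X1 + x2 * X2 = 0)
    (b : x0 * Y0 + x1 * Y1 + x2 * Y2 = 0) (c : y0 * X0 + y1 * X1 + y2 * X2 = 0)
    (d : y0 * Y0 + y1 * Y1 + y2 * Y2 = 0) :
    (x0 * y1 - x1 * y0) ^ 2 * (X0 * Y1 - X1 * Y0) = 0 := by
  have h1 : (x0 * y1 - x1 * y0) * X0 = (x1 * y2 - x2 * y1) * X2 := by linear_combination y1 * a - x1 * c
  have h2 : (x0 * y1 - x1 * y0) * X1 = (x2 * y0 - x0 * y2) * X2 := by linear_combination x0 * c - y0 * a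
  have h3 : (x0 * y1 - x1 * y0) * Y0 = (x1 * y2 - x2 * y1) * Y2 := by linear_combination y1 * b - x1 * d
  have h4 : (x0 * y1 - x1 * y0) * Y1 = (x2 * y0 - x0 * y2) * Y2 := by linear_combination x0 * d - y0 * b
  linear_combination ((x0 * y1 - x1 * y0) * Y1) * h1 + (x1 * y2 - x2 * y1) * X2 * h4
    - ((x0 * y1 - x1 * y0) * Y0) * h2 - (x2 * y0 - x0 * y2) * X2 * h3

/-- orthogonal isotropic vectors are proportional (proof of helper234, `EH3.Rank1.UThree.parallel`) -/
theorem parallel (hF : Fintype.card F = q ^ 2) {u v : Fin 3 → F} (hu : hermForm 3 F q u u = 0)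
    (hv : hermForm 3 F q v v = 0) (huv : hermForm 3 F q u v = 0) (h0 : u ≠ 0) : ∃ c : F, v = c • u := by
  have hvu : hermForm 3 F q v u = 0 := herm_eq_zero_swap hF huv
  rw [herm_def, Fin.sum_univ_three] at hu hv huv hvu
  have key : ∀ {x y : F} (X Y : F) , (x * Y - y * X) ^ 2 * (x ^ q * Y ^ q - y ^ q * X ^ q) = 0 → x * Y - y * X = 0 := by
    intro x y X Y h
    rcases mul_eq_zero.1 h with h1 | h1
    · exact pow_eq_zero_iff (two_ne_zero) |>.1 h1
    · rw [← mul_pow, ← mul_pow, ← sub_pow_q hF] at h1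
      exact (pow_q_eq_zero hF).1 h1
  have m01 : u 0 * v 1 - u 1 * v 0 = 0 := key _ _ (minors hu huv hvu hv)
  have m12 : u 1 * v 2 - u 2 * v 1 = 0 := key _ _ (minors (x2 := u 0) (y2 := v 0) (X2 := u 0 ^ q) (Y2 := v 0 ^ q)
    (by linear_combination hu) (by linear_combination huv) (by linear_combination hvu) (by linear_combination hv))
  have m20 : u 2 * v 0 - u 0 * v 2 = 0 := key _ _ (minors (x2 := u 1) (y2 := v 1) (X2 := u 1 ^ q) (Y2 := v 1 ^ q)
    (by linear_combination hu) (by linear_combination huv) (by linear_combination hvu) (by linear_combination hv))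
  obtain ⟨i, hi⟩ : ∃ i, u i ≠ 0 := by
    by_contra hcon
    push Not at hcon
    exact h0 (funext hcon)
  have hmin : ∀ i j, u i * v j = u j * v i := by
    intro i j
    fin_cases i <;> fin_cases j
    · rfl
    · show u 0 * v 1 = u 1 * v 0
      linear_combination m01
    · show u 0 * v 2 = u 2 * v 0
      linear_combination -m20
    · show u 1 * v 0 = u 0 * v 1
      linear_combination -m01
    · rfl
    · show u 1 * v 2 = u 2 * v 1
      linear_combination m12
    · show u 2 * v 0 = u 0 * v 2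
      linear_combination m20
    · show u 2 * v 1 = u 1 * v 2
      linear_combination -m12
    · rfl
  refine ⟨v i / u i, ?_⟩
  ext j
  rw [Pi.smul_apply, smul_eq_mul, div_mul_eq_mul_div, eq_div_iff hi]
  linear_combination hmin i j

/-- An element of `SU₃` fixing a hyperbolic pair is trivial. -/
theorem eq_one_of_fix_pair (hF : Fintype.card F = q ^ 2) {u u' : Fin 3 → F} (hu : hermForm 3 F q u u = 0)
    (hu' : hermForm 3 F q u' u' = 0) (huu' : hermForm 3 F q u u' = 1) {g : SU 3 F q} (hg : act g u = u)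
    (hg' : act g u' = u') : g = 1 := by
  obtain ⟨v, v', a, b, ha, hv, hv', hvv, hv'v', hvv'⟩ := exists_hyp_pair (q := q) (n := 3) hF
    (show (0 : Fin 3) ≠ 1 by decide)
  obtain ⟨x, -, hx, hx'⟩ := exists_map_hyp hF le_rfl le_rfl (mem_coordSub_top u) (mem_coordSub_top u')
    (mem_coordSub_top v) (mem_coordSub_top v') hu hu' huu' hvv hv'v' hvv'
  have h1 : act (x * g * x⁻¹) v = v := by
    rw [act_mul, act_mul, ← hx, act_inv_act, hg]
  have h2 : act (x * g * x⁻¹) v' = v' := by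
    rw [act_mul, act_mul, ← hx', act_inv_act, hg']
  have h3 : act (x * g * x⁻¹) (Pi.single 0 1) = Pi.single 0 1 := by
    have h4 : (Pi.single 0 1 : Fin 3 → F) = v' - b • v := by rw [hv', add_sub_cancel_right]
    rw [h4, act_sub, act_smul, h1, h2]
  have h5 : act (x * g * x⁻¹) (Pi.single 1 1) = Pi.single 1 1 := by
    have h4 : (Pi.single 1 1 : Fin 3 → F) = a⁻¹ • (v - Pi.single 0 1) := by
      rw [hv, add_sub_cancel_left, smul_smul, inv_mul_cancel₀ ha, one_smul]
    rw [h4, act_smul, act_sub, h1, h3]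
  have h6 : x * g * x⁻¹ = 1 := by
    refine eq_one_of_fix hF 2 ?_
    intro j hj
    fin_cases j
    · exact h3
    · exact h5
    · exact absurd rfl hj
  have h7 : g = x⁻¹ * (x * g * x⁻¹) * x := by group
  rw [h7, h6]; group

/-- The stabiliser of an isotropic vector consists of Siegel transformations. -/
theorem exists_siegel (hF : Fintype.card F = q ^ 2) {u : Fin 3 → F} (hu0 : u ≠ 0) (hu : hermForm 3 F q u u = 0)
    {g : SU 3 F q} (hg : act g u = u) : ∃ (w : Fin 3 → F) (μ : F) (h : IsSiegel q u w μ), g = siegel hF u w μ h := by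
  obtain ⟨u', hu', huu'⟩ := exists_partner hF hu0 hu
  have hsw : hermForm 3 F q u' u = 1 := by rw [herm_swap hF u u', huu', one_pow]
  have h1 : hermForm 3 F q (act g u') u = 1 := by
    conv_lhs => rw [← hg]
    rw [herm_act, hsw]
  obtain ⟨c, μ, h, hs⟩ := exists_siegel_map hF (u := u) (v := u') (v' := act g u') hu
    (by rw [herm_act]) (by rw [h1, hsw]) (by rw [hsw]; exact one_ne_zero)
  refine ⟨_, μ, h, ?_⟩
  set s := siegel hF u (c • (act g u' - u')) μ h with hsdef
  have h2 : s⁻¹ * g = 1 := by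
    refine eq_one_of_fix_pair hF hu hu' huu' ?_ ?_
    · rw [act_mul, hg]
      conv_lhs => rw [← act_siegel_self hF h]
      exact act_inv_act _ _
    · rw [act_mul, ← hs, act_inv_act]
  rw [inv_mul_eq_one] at h2
  exact h2.symm

theorem siegel_cube (hF : Fintype.card F = q ^ 2) {u w : Fin 3 → F} {μ : F} (h : IsSiegel q u w μ) :
    (mat (siegel hF u w μ h) - 1) ^ 3 = 0 := by
  set M := mat (siegel hF u w μ h) - 1 with hM
  have hx : ∀ x, M *ᵥ x = hermForm 3 F q x u • w + (μ * hermForm 3 F q x u - hermForm 3 F q x w) • u := by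
    intro x
    have h1 : act (siegel hF u w μ h) x = mat (siegel hF u w μ h) *ᵥ x := rfl
    rw [hM, sub_mulVec, one_mulVec, ← h1, act_siegel]
    abel
  have hu : M *ᵥ u = 0 := by
    rw [hx, h.iso, h.orth' hF]; simp
  have h2 : ∀ x, hermForm 3 F q (M *ᵥ x) u = 0 := by
    intro x
    rw [hx, herm_add_left, herm_smul_left, herm_smul_left, h.iso, h.orth]; simp
  have h3 : ∀ x, ∃ c : F, M *ᵥ (M *ᵥ x) = c • u := by
    intro x
    rw [hx (M *ᵥ x), h2]
    exact ⟨_, by rw [zero_smul, zero_add]⟩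
  apply Matrix.ext_of_mulVec_single
  intro i
  obtain ⟨c, hc⟩ := h3 (Pi.single i 1)
  rw [pow_succ', pow_two, ← mulVec_mulVec, ← mulVec_mulVec, hc, mulVec_smul, hu, smul_zero, zero_mulVec]

/-- Unipotent matrices have order `p`. -/
theorem pow_eq_one {p : ℕ} [Fact p.Prime] [CharP F p] (hp : 3 ≤ p) {M : Matrix (Fin 3) (Fin 3) F} (hM : (M - 1) ^ 3 = 0) :
    M ^ p = 1 := by
  have h1 : (M - 1) ^ p = M ^ p - 1 := by
    rw [sub_pow_char_of_commute p (Commute.one_right M), one_pow]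
  have h2 : (M - 1) ^ p = 0 := pow_eq_zero_of_le hp hM
  rw [h2] at h1
  exact (sub_eq_zero.1 h1.symm)

theorem mat_pow (g : SU 3 F q) (n : ℕ) : mat (g ^ n) = mat g ^ n := by
  induction n with
  | zero => rw [pow_zero, pow_zero]; rfl
  | succ n ih => rw [pow_succ, mat_mul, ih, pow_succ]

theorem vecData {p a : ℕ} [hpf : Fact p.Prime] (hp : 5 ≤ p) (hF : Fintype.card F = p ^ (2 * a)) :
    VecData p F (fun (g : SU 3 F (p ^ a)) (v : Fin 3 → F) => act g v) {u | u ≠ 0 ∧ hermForm 3 F (p ^ a) u u = 0} := by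
  have : CharP F p := charP_of_card_eq_prime_pow hF
  have hF2 : Fintype.card F = (p ^ a) ^ 2 := by rw [hF, ← pow_mul, mul_comm]
  have hq2 := two_le hF2
  have hprop : ∀ u v : Fin 3 → F, u ≠ 0 → hermForm 3 F (p ^ a) u u = 0 → hermForm 3 F (p ^ a) v v = 0 →
      (¬ ∃ c : F, v = c • u) → hermForm 3 F (p ^ a) v u ≠ 0 := by
    intro u v hu0 hu hv hne h
    exact hne (parallel hF2 hu hv (herm_eq_zero_swap hF2 h) hu0)
  refine ⟨act_one, act_mul, act_smul, ?_, fun u hu => hu.1, ?_, ?_, ?_, ?_, ?_, ?_, ?_, ?_, ?_⟩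
  · intro x k hk
    have h1 : (x - 1) ^ p ^ k = 0 := by rw [sub_pow_char_pow, hk, one_pow, sub_self]
    exact sub_eq_zero.1 (pow_eq_zero_iff (pow_ne_zero k hpf.out.ne_zero) |>.1 h1)
  · obtain ⟨v, v', a', b, ha, hv, hv', hvv, hv'v', hvv'⟩ := exists_hyp_pair (q := p ^ a) (n := 3) hF2
      (show (0 : Fin 3) ≠ 1 by decide)
    refine ⟨v, ?_, hvv⟩
    rintro rfl
    rw [herm_zero_left] at hvv'
    exact zero_ne_one hvv'
  · rintro g u ⟨hu0, hu⟩
    exact ⟨fun h => hu0 ((act_eq_zero g).1 h), by rw [herm_act]; exact hu⟩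
  · rintro u ⟨hu0, hu⟩ g hg
    obtain ⟨w, μ, h, rfl⟩ := exists_siegel hF2 hu0 hu hg
    refine ⟨1, ?_⟩
    apply mat_injective
    rw [pow_one, mat_pow, mat_one]
    exact pow_eq_one (by omega) (siegel_cube hF2 h)
  · rintro u ⟨hu0, hu⟩ v ⟨hv0, hv⟩ h
    by_contra hne
    have h1 := hprop u v hu0 hu hv hne
    obtain ⟨μ, hμ0, hμ⟩ := exists_trace_zero_ne hF2
    have hs : IsSiegel (p ^ a) u 0 μ := ⟨hu, herm_zero_left u, by rw [herm_zero_left, add_zero, hμ]⟩
    have h2 := h (siegel hF2 u 0 μ hs) (act_siegel_self hF2 hs)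
    have h3 : act (siegel hF2 u 0 μ hs) v = v + (μ * hermForm 3 F (p ^ a) v u) • u := by
      rw [act_siegel, smul_zero, add_zero, herm_zero_right hF2, sub_zero]
    have h2' : act (siegel hF2 u 0 μ hs) v = v := h2
    rw [h3, add_eq_left, smul_eq_zero] at h2'
    rcases h2' with h4 | h4
    · exact mul_ne_zero hμ0 h1 h4
    · exact hu0 h4
  · rintro u ⟨hu0, hu⟩ v ⟨hv0, hv⟩ w ⟨hw0, hw⟩ hvu hwu
    have h1 := hprop u v hu0 hu hv hvu
    have h2 := hprop u w hu0 hu hw hwu
    set c := hermForm 3 F (p ^ a) v u / hermForm 3 F (p ^ a) w u with hc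
    have hc0 : c ≠ 0 := div_ne_zero h1 h2
    obtain ⟨d, μ, h, hs⟩ := exists_siegel_map hF2 (u := u) (v := v) (v' := c • w) hu
      (by rw [hv, herm_smul_left, herm_smul_right, hw]; ring)
      (by rw [herm_smul_left, hc, div_mul_cancel₀ _ h2]) h1
    exact ⟨_, act_siegel_self hF2 h, c, hc0, hs⟩
  · rintro u ⟨hu0, hu⟩
    obtain ⟨u', hu', huu'⟩ := exists_partner hF2 hu0 hu
    have hu'0 : u' ≠ 0 := by
      rintro rfl
      rw [herm_zero_right hF2] at huu'
      exact zero_ne_one huu'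
    have h2 : (2 : F) ≠ 0 := by
      intro h
      have h3 : ((2 : ℕ) : F) = 0 := by exact_mod_cast h
      rw [CharP.cast_eq_zero_iff F p] at h3
      exact absurd (Nat.le_of_dvd (by norm_num) h3) (by omega)
    have h2q : (2 : F) ^ p ^ a = 2 := by
      have h3 := add_pow_q hF2 (1 : F) 1
      rw [one_pow] at h3
      rw [show (2 : F) = 1 + 1 by norm_num]; exact h3
    obtain ⟨l, hl0, hl⟩ := exists_norm_eq_ne hF2 h2q h2
    have hl1 : l * l ^ p ^ a ≠ 1 := by
      rw [hl]
      intro h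
      have h3 : (1 : F) = 0 := by linear_combination h
      exact one_ne_zero h3
    have hpair : hermForm 3 F (p ^ a) (l • u) ((l⁻¹) ^ p ^ a • u') = 1 := by
      rw [herm_smul_left, herm_smul_right, huu', pow_q_pow_q hF2, mul_one, mul_inv_cancel₀ hl0]
    obtain ⟨t, -, ht, ht'⟩ := exists_map_hyp hF2 le_rfl le_rfl (mem_coordSub_top u) (mem_coordSub_top u')
      (mem_coordSub_top (l • u)) (mem_coordSub_top ((l⁻¹) ^ p ^ a • u')) hu hu' huu'
      (by rw [herm_smul_left, herm_smul_right, hu]; ring) (by rw [herm_smul_left, herm_smul_right, hu']; ring) hpair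
    refine ⟨u', ⟨hu'0, hu'⟩, ?_, t, ⟨l, ht⟩, ⟨_, ht'⟩, ?_⟩
    · rintro ⟨c, rfl⟩
      rw [herm_smul_right, hu, mul_zero] at huu'
      exact zero_ne_one huu'
    · rintro w ⟨hw0, hw⟩ ⟨ν, hν⟩
      have hν' : act t w = ν • w := hν
      have e1 : ν * l ^ p ^ a * hermForm 3 F (p ^ a) w u = hermForm 3 F (p ^ a) w u := by
        have h3 := herm_act t w u
        rw [hν', ht, herm_smul_left, herm_smul_right] at h3
        rw [← h3]; rw [h3]; rw [← mul_assoc] at h3; exact h3
      have e2 : ν * l⁻¹ * hermForm 3 F (p ^ a) w u' = hermForm 3 F (p ^ a) w u' := by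
        have h3 := herm_act t w u'
        rw [hν', ht', herm_smul_left, herm_smul_right, pow_q_pow_q hF2, ← mul_assoc] at h3
        exact h3
      by_cases h3 : hermForm 3 F (p ^ a) w u = 0
      · exact Or.inl (parallel hF2 hu hw (herm_eq_zero_swap hF2 h3) hu0)
      by_cases h4 : hermForm 3 F (p ^ a) w u' = 0
      · exact Or.inr (parallel hF2 hu' hw (herm_eq_zero_swap hF2 h4) hu'0)
      exfalso
      have e3 : ν * l ^ p ^ a = 1 := mul_right_cancel₀ h3 (by rw [e1, one_mul])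
      have e4 : ν * l⁻¹ = 1 := mul_right_cancel₀ h4 (by rw [e2, one_mul])
      apply hl1
      rw [mul_inv_eq_one₀ hl0] at e4
      rw [← e4]; rw [← e4] at e3; exact e3
  · intro g hg
    obtain ⟨d, hd⟩ := scalar_of_fix_iso hF2 le_rfl (g := g) (fun u hu => by
      by_cases hu0 : u = 0
      · exact ⟨0, by rw [hu0, act_zero, smul_zero]⟩
      · exact hg u ⟨hu0, hu⟩)
    exact mem_center_of_scalar hd
  · intro g hg
    obtain ⟨d, hd⟩ := scalar_of_fix_iso hF2 le_rfl (g := g) (fun u hu => by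
      by_cases hu0 : u = 0
      · exact ⟨0, by rw [hu0, act_zero, smul_zero]⟩
      · exact ⟨1, by rw [one_smul]; exact hg u ⟨hu0, hu⟩⟩)
    obtain ⟨v, v', a', b, ha, hv, hv', hvv, hv'v', hvv'⟩ := exists_hyp_pair (q := p ^ a) (n := 3) hF2
      (show (0 : Fin 3) ≠ 1 by decide)
    have hv0 : v ≠ 0 := by
      rintro rfl
      rw [herm_zero_left] at hvv'
      exact zero_ne_one hvv'
    have h1 : act g v = v := hg v ⟨hv0, hvv⟩
    have h2 : d = 1 := by
      have h3 : (d - 1) • v = 0 := by rw [sub_smul, one_smul, ← hd, h1, sub_self]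
      exact sub_eq_zero.1 ((smul_eq_zero.1 h3).resolve_right hv0)
    apply ext_act
    intro x
    rw [hd, h2, one_smul, act_one]
  · rw [← commutator_def]
    refine LieClassical.HermPerfect.commutator_SU_eq_top hF2 le_rfl ?_
    rintro ⟨-, h⟩
    have h3 : p ∣ 2 := by
      rw [← h]
      refine dvd_pow_self p ?_
      rintro rfl
      simp at h
    exact absurd (Nat.le_of_dvd (by norm_num) h3) (by omega)

end Cfsg.Agent.H273.VecSU3
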